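import Cfsg.Agent.Lib.SmallCent.Setup
import Cfsg.Agent.S4482
import Cfsg.Agent.Lib.BlockReg.Integral
import Cfsg.Agent.Lib.BrauerRey.Blocks
import Mathlib.RepresentationTheory.Invariants

/-!
# The two order equations
-/

set_option autoImplicit false

namespace CfsgLib.SmallCent

open CfsgLib.Invol

universe u

variable {G : Type u} [Group G] [Finite G]

/-- The sum of a character over a subgroup is a multiple of its order. -/
theorem exists_sum_eq (χ : Cfsg.IrrCharacter G) (H : Subgroup G) [Fintype H] :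
    ∃ k : ℕ, ∑ x : H, (χ : G → ℂ) x = (Nat.card H : ℂ) * k := by
  obtain ⟨n, ρ, -, hχ⟩ := χ.2
  set θ : Representation ℂ H (Fin n → ℂ) := ρ.comp H.subtype
  haveI : Invertible (Fintype.card H : ℂ) :=
    invertibleOfNonzero (Nat.cast_ne_zero.2 Fintype.card_ne_zero)
  have h1 : (Nat.card H : ℂ)⁻¹ * ∑ h, θ.character h =
      Module.finrank ℂ (Representation.invariants θ) := by
    rw [← (Representation.isProj_averageMap θ).trace]
    simp [Representation.averageMap, GroupAlgebra.average, Representation.character,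
      map_sum, Representation.asAlgebraHom_of, Nat.card_eq_fintype_card]
  refine ⟨Module.finrank ℂ (Representation.invariants θ), ?_⟩
  rw [← h1, mul_inv_cancel_left₀ (Nat.cast_ne_zero.2 Nat.card_pos.ne'), ← hχ]
  rfl

variable {P : Sylow 2 G} {w τ : G}

theorem isConj_refl (S : Setup P w τ) (i : ℕ) : IsConj (w ^ 2) (w ^ i * τ) :=
  S.hone _ (orderOf_eq_two (fun e => DihPairs.refl_ne S.d i 0 (by rw [pow_zero]; exact e))
    (DihPairs.refl_sq S.d i))

/-- The sum of a class function over the Sylow subgroup. -/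
theorem sum_sylow (S : Setup P w τ) (χ : Cfsg.IrrCharacter G) [Fintype (P : Subgroup G)] :
    ∑ x : (P : Subgroup G), (χ : G → ℂ) x = (χ : G → ℂ) 1 + (χ : G → ℂ) (w ^ 1) +
      (χ : G → ℂ) (w ^ 2) + (χ : G → ℂ) (w ^ 3) + 4 * (χ : G → ℂ) (w ^ 2) := by
  let f : Fin 4 × Fin 2 → (P : Subgroup G) := fun q =>
    ⟨w ^ (q.1 : ℕ) * τ ^ (q.2 : ℕ), mul_mem (pow_mem S.d.hσ _) (pow_mem S.d.hτ _)⟩
  have hsurj : Function.Surjective f := by
    rintro ⟨s, hs⟩
    obtain ⟨i, hi, rfl | rfl⟩ := DihPairs.cases S.d hs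
    · exact ⟨(⟨i, hi⟩, 0), Subtype.ext (by simp [f])⟩
    · exact ⟨(⟨i, hi⟩, 1), Subtype.ext (by simp [f])⟩
  have hbij : Function.Bijective f := by
    refine (Fintype.bijective_iff_surjective_and_card f).2 ⟨hsurj, ?_⟩
    rw [← Nat.card_eq_fintype_card, ← Nat.card_eq_fintype_card, S.d.card, Nat.card_prod,
      Nat.card_fin, Nat.card_fin]
  rw [← (Equiv.ofBijective f hbij).sum_comp, Fintype.sum_prod_type, Fin.sum_univ_four]
  simp only [Fin.sum_univ_two, Equiv.ofBijective_apply, f, Fin.val_zero, Fin.val_one, pow_one,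
    pow_zero, mul_one]
  have hc : ∀ i : ℕ, (χ : G → ℂ) (w ^ i * τ) = (χ : G → ℂ) (w ^ 2) := fun i =>
    (CfsgLib.BlockReg.char_conj_invariant χ _ _ (isConj_refl S i)).symm
  have h0 := hc 0
  have h1 := hc 1
  rw [pow_zero, one_mul] at h0
  rw [pow_one] at h1
  simp only [Fin.val_two, show ((3 : Fin 4) : ℕ) = 3 from rfl, hc, h0, h1, one_mul]
  ring

theorem degree_mod_eight (S : Setup P w τ) (χ : Cfsg.IrrCharacter G) (v z : ℤ)
    (h1 : (χ : G → ℂ) (w ^ 1) = v) (h2 : (χ : G → ℂ) (w ^ 2) = z) (h3 : (χ : G → ℂ) (w ^ 3) = v) :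
    (8 : ℤ) ∣ Cfsg.charDegree (χ : G → ℂ) + 2 * v + 5 * z := by
  classical
  haveI : Fintype (P : Subgroup G) := Fintype.ofFinite _
  obtain ⟨k, hk⟩ := exists_sum_eq χ (P : Subgroup G)
  rw [sum_sylow S χ, h1, h2, h3, S.d.card, CfsgLib.Blk83.one_eq] at hk
  refine ⟨k, ?_⟩
  have : (((Cfsg.charDegree (χ : G → ℂ) : ℤ) + 2 * v + 5 * z : ℤ) : ℂ) = ((8 * k : ℤ) : ℂ) := by
    push_cast at hk ⊢
    linear_combination hk
  exact_mod_cast this

/-- The degrees of the principal block and the two equations. -/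
theorem equations (S : Setup P w τ) (hperf : commutator G = ⊤) :
    ∃ X Y Z : ℤ, 1 + X + Y + Z = 0 ∧ X % 8 = 1 ∧ Y % 8 = 3 ∧ Z % 8 = 3 ∧ X ≠ 1 ∧
      (Nat.card G : ℤ) * (1 + X) * (1 + Y) * (1 + Z) =
        256 * ((Nat.card (fix w τ) : ℤ) * Nat.card (fix w (w * τ))) ^ 2 * (X * Y * Z) ∧
      (Nat.card G : ℤ) * (X - 1) ^ 2 =
        64 * ((Nat.card (fix w τ) : ℤ) * Nat.card (fix w (w * τ))) *
          ((Nat.card (fix w τ) : ℤ) + Nat.card (fix w (w * τ))) ^ 2 * (X * (X + 1)) := by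
  classical
  have : Fact (Nat.Prime 2) := ⟨Nat.prime_two⟩
  obtain ⟨M, hM⟩ := CfsgLib.BlockReg.exists_isPModular Nat.prime_two
  have hζ : IsPrimitiveRoot Complex.I (2 * 2) :=
    IsPrimitiveRoot.iff_orderOf.2 (orderOf_eq_prime_pow (p := 2) (n := 1)
      (by rw [pow_one, Complex.I_sq]; norm_num)
      (by rw [show 2 ^ (1 + 1) = 2 * 2 by norm_num, pow_mul, Complex.I_sq]; norm_num))
  obtain ⟨A, C, D, Bk, e, f, g, ⟨he, hf, hg⟩, ⟨hA, hC, hD, -, -, -⟩, -, -, hmem, hsum, hvals, hreg⟩ :=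
    DihBlock.block_structure hM S.d (b := 1) (by norm_num) le_rfl hζ
  obtain ⟨hA1, hC1, hD1, hB1⟩ := hvals 1 one_pos (by norm_num)
  obtain ⟨hA2, hC2, hD2, -⟩ := hvals 2 two_pos (by norm_num)
  obtain ⟨hA3, hC3, hD3, -⟩ := hvals 3 (by norm_num) (by norm_num)
  norm_num at hC1 hC2 hC3 hD1 hD2 hD3
  have hB : (Bk 1 : G → ℂ) (w ^ 1) = 0 := by
    rw [hB1 1 (Finset.mem_Ico.2 ⟨le_rfl, by norm_num⟩), mul_one, pow_one, Complex.inv_I,
      add_neg_cancel, mul_zero]
  set xA := Cfsg.charDegree (A : G → ℂ) with hxA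
  set xC := Cfsg.charDegree (C : G → ℂ) with hxC
  set xD := Cfsg.charDegree (D : G → ℂ) with hxD
  obtain ⟨hrel, -⟩ := hreg 1 (by rw [orderOf_one]; norm_num)
  rw [CfsgLib.Blk83.one_eq A, CfsgLib.Blk83.one_eq C, CfsgLib.Blk83.one_eq D] at hrel
  refine ⟨e * xA, f * xC, g * xD, ?_, ?_, ?_, ?_, ?_, ?_, ?_⟩
  · have : ((1 + e * xA + f * xC + g * xD : ℤ) : ℂ) = 0 := by
      push_cast; linear_combination hrel
    exact_mod_cast this
  · have h := degree_mod_eight S A e e hA1 hA2 hA3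
    rw [← hxA] at h
    rcases he with rfl | rfl <;> omega
  · have h := degree_mod_eight S C f (-f) (by rw [pow_one]; exact_mod_cast hC1)
      (by push_cast; exact hC2) (by exact_mod_cast hC3)
    rw [← hxC] at h
    rcases hf with rfl | rfl <;> omega
  · have h := degree_mod_eight S D g (-g) (by rw [pow_one]; exact_mod_cast hD1)
      (by push_cast; exact hD2) (by exact_mod_cast hD3)
    rw [← hxD] at h
    rcases hg with rfl | rfl <;> omega
  · intro h1
    have : xA = 1 := by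
      rcases he with rfl | rfl <;> omega
    exact hA (CfsgLib.BrauerRey.eq_principal_of_deg_eq_one hperf this)
  · -- the pairs with product in `w O`
    cases nonempty_fintype G
    have hCw := centralizer_eq_zpowers S
    have hidx : (⊥ : Subgroup (Subgroup.centralizer ({w ^ 1} : Set G))).index = 2 ^ 2 := by
      rw [Subgroup.index_bot, pow_one, hCw, Nat.card_zpowers, S.d.ord]; norm_num
    have E := DihPairs.block_equation hM S.d S.hone (l := 1) (e := 2) (by norm_num) one_pos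
      (by norm_num) ⟨2, by rw [pow_one, S.d.ord]; norm_num⟩ ⊥
      (by rw [Subgroup.card_bot]; norm_num) hidx
    rw [DihPairs.sum_fib_odd _ 2 odd_one, hsum, show Finset.Ico 1 2 = {1} from rfl,
      Finset.sum_singleton] at E
    have hf0 : (DihPairs.fib w τ 2 0 : ℂ) * Nat.card (fix w τ) =
        Nat.card (DihPairs.core (w ^ 2)) := by
      have hfm := DihPairs.fib_mul_card S.d 0
      rw [pow_zero, one_mul, (card_pair S).1, ← mul_assoc, mul_comm _ 4, mul_assoc] at hfm
      exact_mod_cast Nat.eq_of_mul_eq_mul_left four_pos hfm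
    have hf1 : (DihPairs.fib w τ 2 1 : ℂ) * Nat.card (fix w (w * τ)) =
        Nat.card (DihPairs.core (w ^ 2)) := by
      have hfm := DihPairs.fib_mul_card S.d 1
      rw [pow_one, (card_pair S).2, ← mul_assoc, mul_comm _ 4, mul_assoc] at hfm
      exact_mod_cast Nat.eq_of_mul_eq_mul_left four_pos hfm
    set α := Nat.card (fix w τ) with hα
    set β := Nat.card (fix w (w * τ)) with hβ
    have ho : (Nat.card (DihPairs.core (w ^ 2)) : ℂ) = (α : ℂ) * β := by
      rw [← Nat.cast_mul, ← card_core S]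
    have hzc : (Nat.card (Subgroup.centralizer ({w ^ 2} : Set G)) : ℂ) = 8 * ((α : ℂ) * β) := by
      rw [card_centralizer_z S, Nat.cast_mul, ho]; norm_num
    have hα0 : (α : ℂ) ≠ 0 := Nat.cast_ne_zero.2 Nat.card_pos.ne'
    have hβ0 : (β : ℂ) ≠ 0 := Nat.cast_ne_zero.2 Nat.card_pos.ne'
    have hF0 : (DihPairs.fib w τ 2 0 : ℂ) = β := by
      refine mul_right_cancel₀ hα0 ?_
      rw [hf0, ho, mul_comm]
    have hF1 : (DihPairs.fib w τ 2 1 : ℂ) = α := by
      refine mul_right_cancel₀ hβ0 ?_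
      rw [hf1, ho]
    have hC1' : (C : G → ℂ) (w ^ 1) = f := by rw [pow_one]; exact hC1
    have hD1' : (D : G → ℂ) (w ^ 1) = g := by rw [pow_one]; exact hD1
    rw [CfsgLib.Char.principalIrr_apply, CfsgLib.Char.principalIrr_apply,
      CfsgLib.Char.principalIrr_apply, hA1, hA2, hB, hC1', hC2, hD1', hD2, ho, hzc,
      CfsgLib.Blk83.one_eq A, CfsgLib.Blk83.one_eq C, CfsgLib.Blk83.one_eq D, ← hxA, ← hxC, ← hxD] at E
    push_cast at E
    rw [hF0, hF1] at E
    have hxA0 : (xA : ℂ) ≠ 0 := Nat.cast_ne_zero.2 (CfsgLib.Blk83.deg_pos A).ne'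
    have hxC0 : (xC : ℂ) ≠ 0 := Nat.cast_ne_zero.2 (CfsgLib.Blk83.deg_pos C).ne'
    have hxD0 : (xD : ℂ) ≠ 0 := Nat.cast_ne_zero.2 (CfsgLib.Blk83.deg_pos D).ne'
    have hab : (α : ℂ) * β ≠ 0 := mul_ne_zero hα0 hβ0
    have hS : (Nat.card G : ℂ) * (1 + (e : ℂ) / xA + (f : ℂ) / xC + (g : ℂ) / xD) =
        256 * ((α : ℂ) * β) ^ 2 := by
      refine mul_right_cancel₀ hab ?_
      have hsq : ∀ z : ℤ, (z = 1 ∨ z = -1) → (z : ℂ) * z * z = z := fun z hz => by
        rcases hz with rfl | rfl <;> norm_num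
      simp only [mul_zero, zero_div, add_zero, one_mul, div_one, neg_mul_neg, hsq e he, hsq f hf,
        hsq g hg] at E
      linear_combination E
    have key : ((1 : ℂ) + e * xA) * (1 + f * xC) * (1 + g * xD) =
        ((e : ℂ) * xA * ((f : ℂ) * xC) * ((g : ℂ) * xD)) *
          (1 + (e : ℂ) / xA + (f : ℂ) / xC + (g : ℂ) / xD) := by
      have hi : ∀ z : ℤ, (z = 1 ∨ z = -1) → (z : ℂ) * z = 1 := fun z hz => by
        rcases hz with rfl | rfl <;> norm_num
      field_simp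
      linear_combination hrel - (f : ℂ) * g * xC * xD * hi e he - (e : ℂ) * g * xA * xD * hi f hf -
        (e : ℂ) * f * xA * xC * hi g hg
    have : (((Nat.card G : ℤ) * (1 + e * xA) * (1 + f * xC) * (1 + g * xD) : ℤ) : ℂ) =
        ((256 * ((α : ℤ) * β) ^ 2 * (e * xA * (f * xC) * (g * xD)) : ℤ) : ℂ) := by
      push_cast
      linear_combination (Nat.card G : ℂ) * key + ((e : ℂ) * xA * ((f : ℂ) * xC) * ((g : ℂ) * xD)) * hS
    exact_mod_cast this
  · -- the second equation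
    have hgen : Subgroup.closure ({w, τ} : Set G) = (P : Subgroup G) := by
      refine le_antisymm ((Subgroup.closure_le _).2 ?_) fun s hs => ?_
      · rintro x (rfl | rfl)
        · exact S.d.hσ
        · exact S.d.hτ
      · obtain ⟨i, -, rfl | rfl⟩ := DihPairs.cases S.d hs
        · exact pow_mem (Subgroup.subset_closure (by simp)) i
        · exact mul_mem (pow_mem (Subgroup.subset_closure (by simp)) i)
            (Subgroup.subset_closure (by simp))
    have hτo : orderOf τ = 2 := orderOf_eq_two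
      (fun h => S.d.not_mem (h ▸ one_mem _)) S.d.sq
    have hc : IsConj (w ^ 2) τ ∧ IsConj (w ^ 2) (w * τ) := by
      refine ⟨S.hone τ hτo, ?_⟩
      have := isConj_refl S 1
      rwa [pow_one] at this
    obtain ⟨-, E⟩ := Cfsg.Agent.S4482.result M hM 3 le_rfl P w τ S.d.hσ S.d.hτ
      (by rw [S.d.ord]; norm_num) hτo S.d.inv hgen (by simpa using hc) A
      ((hmem A).2 (Or.inr (Or.inl rfl)))
      (fun h => hA (Subtype.ext (h.trans (funext fun x => (CfsgLib.Char.principalIrr_apply x).symm))))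
      e he (fun l h0 h4 => (hvals l h0 (by simpa using h4)).1)
    simp only [show 2 ^ (3 - 2) = 2 by norm_num] at E
    rw [card_centralizer_z S, (card_pair S).1, (card_pair S).2, ← card_core S, ← hxA] at E
    set α := Nat.card (fix w τ) with hα
    set β := Nat.card (fix w (w * τ)) with hβ
    have hα0 : (α : ℚ) ≠ 0 := Nat.cast_ne_zero.2 Nat.card_pos.ne'
    have hβ0 : (β : ℚ) ≠ 0 := Nat.cast_ne_zero.2 Nat.card_pos.ne'
    push_cast at E
    field_simp at E
    have : (((Nat.card G : ℤ) * (e * xA - 1) ^ 2 : ℤ) : ℚ) =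
        ((64 * ((α : ℤ) * β) * ((α : ℤ) + β) ^ 2 * (e * xA * (e * xA + 1)) : ℤ) : ℚ) := by
      push_cast
      rcases he with rfl | rfl <;> push_cast at E ⊢ <;> linear_combination E / 16
    exact_mod_cast this

end CfsgLib.SmallCent
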