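import Cfsg.Agent.Lib.SmallCent.Four
import Cfsg.Agent.Lib.Case.TwoNilpotent
import Mathlib.GroupTheory.Index

/-!
# The odd part of the centraliser of the core
-/

set_option autoImplicit false

namespace CfsgLib.SmallCent

open CfsgLib.Invol

universe u

variable {G : Type u} [Group G] [Finite G] {P : Sylow 2 G} {w τ : G}

/-- In `C(z) ∩ C(O)` everything lies in `O ⟨z⟩`. -/
theorem cent_decomp (S : Setup P w τ) (hA : 1 < Nat.card (fix w τ))
    (hB : 1 < Nat.card (fix w (w * τ))) {c : G} (hcz : c * w ^ 2 = w ^ 2 * c)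
    (hcO : ∀ o ∈ DihPairs.core (w ^ 2), o * c = c * o) :
    ∃ o ∈ DihPairs.core (w ^ 2), c = o ∨ c = o * w ^ 2 := by
  obtain ⟨o, ho, s, hs, rfl⟩ := DihPairs.exists_decomp S.d hcz
  have hsO : ∀ x ∈ DihPairs.core (w ^ 2), x * s = s * x := fun x hx => by
    have h1 : Commute x (o * s) := hcO x hx
    have h2 : Commute x o := core_comm S hx ho
    have := h2.inv_right.mul_right h1
    rwa [inv_mul_cancel_left] at this
  obtain ⟨q, hq⟩ := exists_four_of_comm S hA hs (fun a ha => hsO a (mem_fix.1 ha).1)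
  obtain ⟨q', hq'⟩ := exists_four_of_comm (swap S) hB hs (fun a ha => hsO a (mem_fix.1 ha).1)
  refine ⟨o, ho, ?_⟩
  obtain ⟨i, j⟩ := q
  obtain ⟨i', j'⟩ := q'
  have hi : (i : ℕ) < 2 := i.2
  have hi' : (i' : ℕ) < 2 := i'.2
  fin_cases j <;> simp only [four, Fin.zero_eta, Fin.mk_one, Fin.val_zero, Fin.val_one, pow_zero,
    pow_one, mul_one] at hq
  · interval_cases h : (i : ℕ)
    · exact Or.inl (by rw [hq, pow_zero, mul_one])
    · exact Or.inr (by rw [hq, pow_one])
  · exfalso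
    rw [← pow_mul] at hq
    fin_cases j' <;> simp only [four, Fin.zero_eta, Fin.mk_one, Fin.val_zero, Fin.val_one, pow_zero,
      pow_one, mul_one] at hq' <;> rw [← pow_mul] at hq'
    · exact DihPairs.refl_ne S.d _ _ (hq.symm.trans hq')
    · have e := hq.symm.trans hq'
      rw [← mul_assoc, ← pow_succ] at e
      have e' := pow_injOn_Iio_orderOf (x := w) (by rw [Set.mem_Iio, S.d.ord]; omega)
        (by rw [Set.mem_Iio, S.d.ord]; omega) (mul_right_cancel e)
      omega

/-- The odd normal subgroup of the centraliser of the core. -/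
theorem exists_odd_part (S : Setup P w τ) (hA : 1 < Nat.card (fix w τ))
    (hB : 1 < Nat.card (fix w (w * τ))) :
    ∃ N : Subgroup G,
      (∀ x, x ∈ N ↔ (∀ o ∈ DihPairs.core (w ^ 2), o * x = x * o) ∧ Odd (orderOf x)) ∧
      Odd (Nat.card N) ∧
      2 * Nat.card N = Nat.card (Subgroup.centralizer (DihPairs.core (w ^ 2) : Set G)) := by
  have : Fact (Nat.Prime 2) := ⟨Nat.prime_two⟩
  set O := DihPairs.core (w ^ 2) with hO
  set C := Subgroup.centralizer (O : Set G) with hC
  have hzC : w ^ 2 ∈ C := Subgroup.mem_centralizer_iff.2 fun o ho => z_comm S ho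
  set z : C := ⟨w ^ 2, hzC⟩ with hzd
  have hz2 : orderOf z = 2 := by rw [hzd, Subgroup.orderOf_mk, DihPairs.orderOf_J S.d]
  obtain ⟨R, hR⟩ := (IsPGroup.of_card (p := 2) (n := 1) (G := Subgroup.zpowers z)
    (by rw [Nat.card_zpowers, hz2, pow_one])).exists_le_sylow
  have key : ∀ c : C, (∃ k, orderOf c = 2 ^ k) → c * z = z * c → c ∈ Subgroup.zpowers z := by
    rintro c ⟨k, hk⟩ hcz
    obtain ⟨o, ho, h⟩ := cent_decomp S hA hB (c := (c : G)) (congrArg Subtype.val hcz)
      (fun o ho => Subgroup.mem_centralizer_iff.1 c.2 o ho)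
    have hck : (c : G) ^ 2 ^ (k + 1) = 1 := by
      rw [pow_succ, pow_mul, ← hk, ← Subgroup.orderOf_coe c, pow_orderOf_eq_one, one_pow]
    have hoe : o = 1 → c ∈ Subgroup.zpowers z := by
      intro e
      rcases h with h | h <;> rw [e] at h
      · rw [show c = 1 from Subtype.ext h]; exact one_mem _
      · rw [show c = z from Subtype.ext (by rw [h, one_mul])]; exact Subgroup.mem_zpowers z
    refine hoe ?_
    have hok : o ^ 2 ^ (k + 1) = 1 := by
      rcases h with h | h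
      · rw [← h]; exact hck
      · rw [h, (show Commute o (w ^ 2) from z_comm S ho).mul_pow, pow_succ' 2 k,
          pow_mul (w ^ 2), sq (w ^ 2), z_mul_z S, one_pow, mul_one, ← pow_succ' 2 k] at hck
        exact hck
    obtain ⟨j, -, hj⟩ := (Nat.dvd_prime_pow Nat.prime_two).1 (orderOf_dvd_of_pow_eq_one hok)
    rcases Nat.eq_zero_or_pos j with rfl | hj0
    · exact orderOf_eq_one_iff.1 (by rw [hj, pow_zero])
    · exact absurd (hj ▸ dvd_pow_self 2 (by omega)) (DihPairs.core_odd S.d ho)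
  have hzR : z ∈ (R : Subgroup C) := hR (Subgroup.mem_zpowers z)
  have : Nontrivial (R : Subgroup C) :=
    ⟨⟨⟨z, hzR⟩, 1, fun e => ne_one_of_invol hz2 (congrArg Subtype.val e)⟩⟩
  have hcen : Nontrivial (Subgroup.center (R : Subgroup C)) := R.2.center_nontrivial
  obtain ⟨⟨e, he⟩, he1⟩ := exists_prime_orderOf_dvd_card' 2 (G := Subgroup.center (R : Subgroup C)) (by
    obtain ⟨k, hk⟩ := IsPGroup.iff_card.1 (R.2.to_subgroup (Subgroup.center (R : Subgroup C)))
    have := Finite.one_lt_card (α := Subgroup.center (R : Subgroup C))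
    rw [hk] at this ⊢
    exact dvd_pow_self 2 (by rintro rfl; simp at this))
  rw [Subgroup.orderOf_mk] at he1
  have hez : (e : C) * z = z * e :=
    (congrArg Subtype.val (Subgroup.mem_center_iff.1 he ⟨z, hzR⟩)).symm
  have hee : (e : C) = z := by
    have hm := key (e : C) ⟨1, by rw [Subgroup.orderOf_coe, he1, pow_one]⟩ hez
    exact CfsgLib.Case.involution_eq_of_cyclic (inferInstance : IsCyclic (Subgroup.zpowers z)) hm
      (Subgroup.mem_zpowers z) (by rw [Subgroup.orderOf_coe, he1]) hz2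
  have hRz : (R : Subgroup C) = Subgroup.zpowers z := by
    refine le_antisymm (fun x hx => ?_) hR
    refine key x ?_ ?_
    · obtain ⟨k, hk⟩ := IsPGroup.iff_orderOf.1 R.2 ⟨x, hx⟩
      exact ⟨k, by rw [← hk]; exact (Subgroup.orderOf_mk x hx).symm⟩
    · have := congrArg Subtype.val (Subgroup.mem_center_iff.1 he ⟨x, hx⟩)
      simp only [Subgroup.coe_mul, hee] at this
      exact this
  have hodd : Odd (R : Subgroup C).index := Nat.odd_iff.2 (by have := R.not_dvd_index; omega)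
  obtain ⟨l, hl⟩ := CfsgLib.Case.index_oddCore_of_cyclic (R : Subgroup C) R.2 hodd (hRz ▸ inferInstance)
  set K := Cfsg.pPrimeCore 2 C with hK
  haveI : K.Normal := CfsgLib.Solvable.pPrimeCore_normal 2 C
  have hKodd : ¬ 2 ∣ Nat.card K :=
    Nat.prime_two.coprime_iff_not_dvd.1 (CfsgLib.Solvable.pPrimeCore_card_coprime 2 C).symm
  have hcard : Nat.card C = 2 * (R : Subgroup C).index := by
    rw [← (R : Subgroup C).card_mul_index, hRz, Nat.card_zpowers, hz2]
  have hl1 : l = 1 := by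
    have h := K.card_mul_index
    rw [hl, hcard] at h
    rcases l with _ | _ | l
    · exfalso
      rw [pow_zero, mul_one] at h
      exact hKodd ⟨_, h⟩
    · rfl
    · exfalso
      obtain ⟨r, hr⟩ := hodd
      rw [pow_succ, pow_succ] at h
      have : Nat.card K * 2 ^ l * 2 = (R : Subgroup C).index := by linarith
      omega
  refine ⟨K.map C.subtype, fun x => ⟨?_, ?_⟩, ?_, ?_⟩
  · rintro ⟨y, hy, rfl⟩
    refine ⟨fun o ho => Subgroup.mem_centralizer_iff.1 y.2 o ho, ?_⟩
    rw [Subgroup.coe_subtype, Subgroup.orderOf_coe, Nat.odd_iff]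
    have := (BlockCol.regular_iff_mem K hKodd hl y).2 hy
    omega
  · rintro ⟨hx, ho⟩
    refine ⟨⟨x, Subgroup.mem_centralizer_iff.2 hx⟩,
      (BlockCol.regular_iff_mem K hKodd hl _).1 ?_, rfl⟩
    rw [Subgroup.orderOf_mk]
    rw [Nat.odd_iff] at ho
    omega
  · rw [Subgroup.card_map_of_injective C.subtype_injective, Nat.odd_iff]
    omega
  · rw [Subgroup.card_map_of_injective C.subtype_injective, ← K.card_mul_index, hl, hl1, pow_one,
      mul_comm]

/-- The order of the odd part in terms of the centraliser of `τ` in it. -/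
theorem card_odd_part (S : Setup P w τ) (hA : 1 < Nat.card (fix w τ))
    (hB : 1 < Nat.card (fix w (w * τ))) {N : Subgroup G}
    (hN : ∀ x, x ∈ N ↔ (∀ o ∈ DihPairs.core (w ^ 2), o * x = x * o) ∧ Odd (orderOf x))
    (hodd : Odd (Nat.card N)) :
    Nat.card N * Nat.card (fix w τ) ^ 2 =
      Nat.card (DihPairs.core (w ^ 2)) *
        Nat.card (N ⊓ Subgroup.centralizer ({τ} : Set G) : Subgroup G) ^ 2 ∧
      N = DihPairs.core (w ^ 2) ⊔ (N ⊓ Subgroup.centralizer ({τ} : Set G)) ⊔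
        (N ⊓ Subgroup.centralizer ({w ^ 2 * τ} : Set G)) := by
  set O := DihPairs.core (w ^ 2) with hO
  set z := w ^ 2 with hz
  have hOc : ∀ o ∈ O, ∀ o' ∈ O, o * o' = o' * o := fun o ho o' ho' => core_comm S ho ho'
  have hON : O ≤ N := fun o ho => (hN o).2 ⟨fun o' ho' => hOc o' ho' o ho,
    Nat.odd_iff.2 (by have := DihPairs.core_odd S.d ho; omega)⟩
  have hnorm : ∀ p ∈ (P : Subgroup G), ∀ x ∈ N, p * x * p⁻¹ ∈ N := by
    intro p hp x hx
    obtain ⟨h1, h2⟩ := (hN x).1 hx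
    refine (hN _).2 ⟨fun o ho => ?_, by rwa [orderOf_conj]⟩
    have h3 := h1 _ (DihPairs.core_conj_mem (DihPairs.comm_J S.d (inv_mem hp)) ho)
    rw [inv_inv] at h3
    calc o * (p * x * p⁻¹) = p * (p⁻¹ * o * p * x) * p⁻¹ := by group
      _ = p * (x * (p⁻¹ * o * p)) * p⁻¹ := by rw [h3]
      _ = _ := by group
  have hzP : z ∈ (P : Subgroup G) := pow_mem S.d.hσ 2
  have hτi : τ⁻¹ = τ := inv_eq_of_mul_eq_one_right S.d.sq
  have hzi : z⁻¹ = z := inv_eq_self (DihPairs.orderOf_J S.d)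
  -- the quotient
  set O' := O.subgroupOf N with hO'
  haveI : O'.Normal := ⟨fun o ho x => by
    have e : x * o * x⁻¹ = o := Subtype.ext (by
      show (x : G) * o * (x : G)⁻¹ = o
      have h : (o : G) * x = x * o := ((hN _).1 x.2).1 _ ho
      rw [← h, mul_inv_cancel_right])
    rwa [e]⟩
  let conjHom : ∀ p ∈ (P : Subgroup G), N →* N := fun p hp =>
    { toFun := fun x => ⟨p * x * p⁻¹, hnorm p hp x x.2⟩
      map_one' := Subtype.ext (by simp)
      map_mul' := fun x y => Subtype.ext (by simp [mul_assoc]) }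
  have hpres : ∀ p (hp : p ∈ (P : Subgroup G)), O' ≤ O'.comap (conjHom p hp) := fun p hp o ho =>
    DihPairs.core_conj_mem (DihPairs.comm_J S.d hp) ho
  let φz := QuotientGroup.map O' O' (conjHom z hzP) (hpres z hzP)
  let φt := QuotientGroup.map O' O' (conjHom τ S.d.hτ) (hpres τ S.d.hτ)
  have hφz : ∀ x : N, φz (QuotientGroup.mk' O' x) = QuotientGroup.mk' O' (conjHom z hzP x) := fun _ => rfl
  have hφt : ∀ x : N, φt (QuotientGroup.mk' O' x) = QuotientGroup.mk' O' (conjHom τ S.d.hτ x) :=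
    fun _ => rfl
  have hmem : ∀ {x y : N}, QuotientGroup.mk' O' x = QuotientGroup.mk' O' y ↔ (x : G)⁻¹ * y ∈ O :=
    fun {x y} => QuotientGroup.eq
  -- fixed points of `z`
  have hfix : ∀ x ∈ N, x * z = z * x → x ∈ O := by
    intro x hx hxz
    obtain ⟨h1, h2⟩ := (hN x).1 hx
    obtain ⟨o, ho, h | h⟩ := cent_decomp S hA hB hxz h1
    · rw [h]; exact ho
    · exfalso
      have hzN : z ∈ N := by
        have := mul_mem (inv_mem (hON ho)) hx
        rwa [h, inv_mul_cancel_left] at this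
      have hd := Subgroup.orderOf_dvd_natCard N hzN
      rw [hz, DihPairs.orderOf_J S.d] at hd
      obtain ⟨k, hk⟩ := hodd
      omega
  have hzfix : ∀ q, φz q = q → q = 1 := by
    intro q hq
    obtain ⟨x, rfl⟩ := QuotientGroup.mk'_surjective O' q
    rw [hφz, eq_comm, hmem] at hq
    have hq' : (x : G)⁻¹ * (z * x * z⁻¹) ∈ O := hq
    set o := (x : G)⁻¹ * (z * x * z⁻¹) with ho
    have ho1 : o = 1 := eq_one_of_sq S hq' (by
      have hcz : z * o * z⁻¹ = o := by
        rw [← z_comm S hq', mul_inv_cancel_right]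
      calc o * o = o * (z * o * z⁻¹) := by rw [hcz]
        _ = (x : G)⁻¹ * (z * z) * (x : G) * (z * z)⁻¹ := by rw [ho]; group
        _ = 1 := by rw [z_mul_z S]; group)
    refine (QuotientGroup.eq_one_iff x).2 (hfix x x.2 ?_)
    rw [ho, inv_mul_eq_one, eq_mul_inv_iff_mul_eq] at ho1
    exact ho1
  have hzinv : ∀ q, φz q = q⁻¹ := by
    have hzz : ∀ q, φz (φz q) = q := fun q => by
      obtain ⟨x, rfl⟩ := QuotientGroup.mk'_surjective O' q
      rw [hφz, hφz]
      congr 1
      refine Subtype.ext ?_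
      show z * (z * x * z⁻¹) * z⁻¹ = (x : G)
      calc z * (z * x * z⁻¹) * z⁻¹ = z * z * x * (z * z)⁻¹ := by group
        _ = x := by rw [z_mul_z S]; group
    intro q
    have hinj : Function.Injective fun y : N ⧸ O' => y⁻¹ * φz y := by
      intro a b e
      refine mul_inv_eq_one.1 (hzfix (a * b⁻¹) ?_)
      have e1 : φz a = a * (b⁻¹ * φz b) := by
        have e' : a⁻¹ * φz a = b⁻¹ * φz b := e
        rw [← e', mul_inv_cancel_left]
      rw [map_mul, map_inv, e1]; group
    obtain ⟨y, rfl⟩ := Finite.injective_iff_surjective.1 hinj q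
    rw [map_mul, map_inv, hzz]
    group
  have hcomm : ∀ a b : N ⧸ O', a * b = b * a := fun a b => by
    have := hzinv (a * b)
    rw [map_mul, hzinv, hzinv, mul_inv_rev] at this
    calc a * b = (b⁻¹ * a⁻¹)⁻¹ := by group
      _ = b * a := by rw [← this]; group
  have htt : ∀ q, φt (φt q) = q := fun q => by
    obtain ⟨x, rfl⟩ := QuotientGroup.mk'_surjective O' q
    rw [hφt, hφt]
    congr 1
    refine Subtype.ext ?_
    show τ * (τ * x * τ⁻¹) * τ⁻¹ = (x : G)
    calc τ * (τ * x * τ⁻¹) * τ⁻¹ = τ * τ * x * (τ * τ)⁻¹ := by group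
      _ = x := by rw [S.d.sq]; group
  -- lifting fixed points of an involution
  have hlift : ∀ r, r ∈ (P : Subgroup G) → r * r = 1 → ∀ x : N,
      (x : G)⁻¹ * (r * x * r⁻¹) ∈ O →
      ∃ k ∈ N ⊓ Subgroup.centralizer ({r} : Set G), (x : G)⁻¹ * k ∈ O := by
    intro r hr hr2 x ho
    obtain ⟨o, hoe⟩ : ∃ o, o = (x : G)⁻¹ * (r * x * r⁻¹) := ⟨_, rfl⟩
    rw [← hoe] at ho
    have hinv : r * o * r⁻¹ = o⁻¹ := by
      refine eq_inv_of_mul_eq_one_left ?_
      rw [hoe, inv_eq_of_mul_eq_one_right hr2]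
      calc r * ((x : G)⁻¹ * (r * x * r)) * r * ((x : G)⁻¹ * (r * x * r)) =
            r * (x : G)⁻¹ * r * x * (r * r) * (x : G)⁻¹ * r * x * r := by group
        _ = 1 := by
          have hr2' : ∀ y, r * (r * y) = y := fun y => by rw [← mul_assoc, hr2, one_mul]
          simp [mul_assoc, hr2, hr2']
    obtain ⟨m, hm⟩ := core_card_odd S
    have hpow : o ^ (2 * m + 1) = 1 := by
      rw [← hm]
      exact congrArg Subtype.val (pow_card_eq_one' (x := (⟨o, ho⟩ : O)))
    have hv : o ^ (m + 1) * o ^ (m + 1) = o := by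
      rw [← pow_add, show m + 1 + (m + 1) = 2 * m + 1 + 1 by ring, pow_succ, hpow, one_mul]
    refine ⟨x * o ^ (m + 1), Subgroup.mem_inf.2 ⟨mul_mem x.2 (hON (pow_mem ho _)),
      Subgroup.mem_centralizer_singleton_iff.2 ?_⟩, by rw [inv_mul_cancel_left]; exact pow_mem ho _⟩
    refine (mul_inv_eq_iff_eq_mul.1 ?_).symm
    calc r * ((x : G) * o ^ (m + 1)) * r⁻¹ = r * x * r⁻¹ * (r * o * r⁻¹) ^ (m + 1) := by
          rw [conj_pow]; group
      _ = (x : G) * o * (o ^ (m + 1))⁻¹ := by rw [hinv, inv_pow, hoe]; group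
      _ = (x : G) * o ^ (m + 1) := by
          conv_lhs => arg 1; arg 2; rw [← hv]
          group
  set K1 := N ⊓ Subgroup.centralizer ({τ} : Set G) with hK1
  set K2 := N ⊓ Subgroup.centralizer ({z * τ} : Set G) with hK2
  have hzt2 : (z * τ) * (z * τ) = 1 := DihPairs.refl_sq S.d 2
  have hztP : z * τ ∈ (P : Subgroup G) := mul_mem hzP S.d.hτ
  have hzt : ∀ x : N, QuotientGroup.mk' O' (conjHom (z * τ) hztP x) =
      (φt (QuotientGroup.mk' O' x))⁻¹ := by
    intro x
    rw [← hzinv, hφt, hφz]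
    congr 1
    refine Subtype.ext ?_
    show z * τ * x * (z * τ)⁻¹ = z * (τ * x * τ⁻¹) * z⁻¹
    group
  let f1 : K1 →* N ⧸ O' := (QuotientGroup.mk' O').comp (Subgroup.inclusion inf_le_left)
  let f2 : K2 →* N ⧸ O' := (QuotientGroup.mk' O').comp (Subgroup.inclusion inf_le_left)
  have h1fix : ∀ q ∈ f1.range, φt q = q := by
    rintro _ ⟨k, rfl⟩
    show φt (QuotientGroup.mk' O' _) = QuotientGroup.mk' O' _
    rw [hφt]
    congr 1
    refine Subtype.ext ?_
    show τ * (k : G) * τ⁻¹ = (k : G)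
    rw [← Subgroup.mem_centralizer_singleton_iff.1 (Subgroup.mem_inf.1 k.2).2, mul_inv_cancel_right]
  have h2fix : ∀ q ∈ f2.range, φt q = q⁻¹ := by
    rintro _ ⟨k, rfl⟩
    show φt (QuotientGroup.mk' O' _) = (QuotientGroup.mk' O' _)⁻¹
    refine inv_injective ?_
    rw [inv_inv, ← hzt]
    congr 1
    refine Subtype.ext ?_
    show z * τ * (k : G) * (z * τ)⁻¹ = (k : G)
    rw [← Subgroup.mem_centralizer_singleton_iff.1 (Subgroup.mem_inf.1 k.2).2, mul_inv_cancel_right]
  obtain ⟨m, hm⟩ : Odd (Nat.card (N ⧸ O')) := Odd.of_dvd_nat hodd O'.index_dvd_card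
  have hdec : ∀ q, ∃ a ∈ f1.range, ∃ b ∈ f2.range, q = a * b := by
    intro q
    set y := q ^ (m + 1) with hy
    have hq : y * y = q := by
      rw [hy, ← pow_add, show m + 1 + (m + 1) = 2 * m + 1 + 1 by ring, pow_succ, ← hm,
        pow_card_eq_one', one_mul]
    have hl1 : ∀ p, φt p = p → p ∈ f1.range := by
      intro p hp
      obtain ⟨x, rfl⟩ := QuotientGroup.mk'_surjective O' p
      rw [hφt, eq_comm, hmem] at hp
      obtain ⟨k, hk, hkO⟩ := hlift τ S.d.hτ S.d.sq x hp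
      exact ⟨⟨k, hk⟩, (hmem.2 hkO).symm⟩
    have hl2 : ∀ p, φt p = p⁻¹ → p ∈ f2.range := by
      intro p hp
      obtain ⟨x, rfl⟩ := QuotientGroup.mk'_surjective O' p
      have h := hzt x
      rw [hp, inv_inv, eq_comm, hmem] at h
      obtain ⟨k, hk, hkO⟩ := hlift (z * τ) hztP hzt2 x h
      exact ⟨⟨k, hk⟩, (hmem.2 hkO).symm⟩
    refine ⟨y * φt y, hl1 _ (by rw [map_mul, htt, hcomm]), y * (φt y)⁻¹,
      hl2 _ (by rw [map_mul, map_inv, htt, mul_inv_rev, inv_inv]), ?_⟩
    calc q = y * y := hq.symm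
      _ = y * (φt y * (φt y)⁻¹) * y := by group
      _ = y * φt y * ((φt y)⁻¹ * y) := by group
      _ = _ := by rw [hcomm ((φt y)⁻¹) y]
  have hsum : N = O ⊔ K1 ⊔ K2 := by
    refine le_antisymm (fun x hx => ?_) (sup_le (sup_le hON inf_le_left) inf_le_left)
    obtain ⟨_, ⟨a, rfl⟩, _, ⟨b, rfl⟩, h⟩ := hdec (QuotientGroup.mk' O' ⟨x, hx⟩)
    have h' : x⁻¹ * ((a : G) * b) ∈ O :=
      (hmem (x := ⟨x, hx⟩) (y := Subgroup.inclusion inf_le_left a * Subgroup.inclusion inf_le_left b)).1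
        (by rw [map_mul]; exact h)
    have hx' : x = (a : G) * b * (x⁻¹ * ((a : G) * b))⁻¹ := by group
    rw [hx']
    exact mul_mem (mul_mem (Subgroup.mem_sup_left (Subgroup.mem_sup_right a.2))
      (Subgroup.mem_sup_right b.2)) (inv_mem (Subgroup.mem_sup_left (Subgroup.mem_sup_left h')))
  refine ⟨?_, hsum⟩
  have hprod : Nat.card (N ⧸ O') = Nat.card f1.range * Nat.card f2.range := by
    rw [← Nat.card_prod]
    symm
    refine Nat.card_eq_of_bijective (fun p => (p.1 : N ⧸ O') * p.2) ⟨?_, ?_⟩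
    · rintro ⟨a, b⟩ ⟨a', b'⟩ e
      have e' : (a : N ⧸ O') * b = a' * b' := e
      have e1 : (a' : N ⧸ O')⁻¹ * a = b' * (b : N ⧸ O')⁻¹ := by
        rw [eq_mul_inv_iff_mul_eq, mul_assoc, e', inv_mul_cancel_left]
      set c := (a' : N ⧸ O')⁻¹ * a with hc
      have hc1 : φt c = c := h1fix c (mul_mem (inv_mem a'.2) a.2)
      have hc2 : φt c = c⁻¹ := h2fix c (e1 ▸ mul_mem b'.2 (inv_mem b.2))
      have hc0 : c = 1 := hzfix c (by rw [hzinv, ← hc2, hc1])
      have ha : a = a' := Subtype.ext (inv_mul_eq_one.1 hc0).symm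
      subst ha
      exact Prod.ext rfl (Subtype.ext (mul_left_cancel e'))
    · intro q
      obtain ⟨a, ha, b, hb, rfl⟩ := hdec q
      exact ⟨(⟨a, ha⟩, ⟨b, hb⟩), rfl⟩
  have hker : ∀ r : G, (∀ o ∈ O, o * r = r * o ↔ o * τ = τ * o) →
      ∀ f : (N ⊓ Subgroup.centralizer ({r} : Set G) : Subgroup G) →* N ⧸ O',
        f = (QuotientGroup.mk' O').comp (Subgroup.inclusion inf_le_left) →
      Nat.card (N ⊓ Subgroup.centralizer ({r} : Set G) : Subgroup G) =
        Nat.card f.range * Nat.card (fix w τ) := by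
    intro r hr f hf
    subst hf
    generalize hF : (QuotientGroup.mk' O').comp (Subgroup.inclusion
      (inf_le_left : N ⊓ Subgroup.centralizer ({r} : Set G) ≤ N)) = f
    rw [← f.ker.card_mul_index, Subgroup.index_ker, mul_comm]
    congr 1
    refine Nat.card_eq_of_bijective (fun k : f.ker => ⟨((k : _) : G), ?_⟩) ⟨?_, ?_⟩
    · have hk : f k = 1 := k.2
      have ho : (k.1 : G) ∈ O :=
        (QuotientGroup.eq_one_iff (N := O') (Subgroup.inclusion inf_le_left k.1)).1
          ((DFunLike.congr_fun hF k.1).trans hk)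
      exact mem_fix.2 ⟨ho, (hr _ ho).1
        (Subgroup.mem_centralizer_singleton_iff.1 (Subgroup.mem_inf.1 k.1.2).2)⟩
    · intro k k' e
      simp only [Subtype.mk.injEq] at e
      exact Subtype.ext (Subtype.ext e)
    · rintro ⟨a, ha⟩
      obtain ⟨ho, hc⟩ := mem_fix.1 ha
      refine ⟨⟨⟨a, Subgroup.mem_inf.2 ⟨hON ho,
        Subgroup.mem_centralizer_singleton_iff.2 ((hr a ho).2 hc)⟩⟩, ?_⟩, rfl⟩
      rw [MonoidHom.mem_ker, ← hF]
      exact (QuotientGroup.eq_one_iff _).2 ho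
  have hc1 := hker τ (fun o _ => Iff.rfl) f1 rfl
  have hc2 := hker (z * τ) (fun o ho => by
    have hoz : o * z = z * o := z_comm S ho
    rw [← mul_assoc, hoz, mul_assoc, mul_assoc]
    exact mul_left_cancel_iff) f2 rfl
  have heq : Nat.card K2 = Nat.card K1 := by
    symm
    refine Nat.card_congr (Equiv.subtypeEquiv (MulAut.conj w).toEquiv fun x => ?_)
    simp only [hK1, hK2, Subgroup.mem_inf, Subgroup.mem_centralizer_singleton_iff,
      MulEquiv.toEquiv_eq_coe, MulEquiv.coe_toEquiv, MulAut.conj_apply]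
    refine and_congr ⟨hnorm w S.d.hσ x, fun h => ?_⟩ ?_
    · have := hnorm _ (inv_mem S.d.hσ) _ h
      rwa [inv_inv, show w⁻¹ * (w * x * w⁻¹) * w = x by group] at this
    · rw [hz, ← w_tau S]
      exact (Commute.conj_iff w).symm
  have hNc := O'.card_mul_index
  rw [hO', Nat.card_congr (Subgroup.subgroupOfEquivOfLe hON).toEquiv, ← hO', Subgroup.index,
    hprod] at hNc
  rw [← hNc, sq (Nat.card K1)]
  conv_rhs => arg 2; arg 2; rw [← heq]
  rw [hc1, hc2]
  ring

end CfsgLib.SmallCent
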