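import Cfsg.Agent.Lib.SmallCent.Cases
import Cfsg.Agent.Lib.SmallCent.Blocks
import Cfsg.Agent.Lib.SmallCent.CoreCent
import Cfsg.Agent.Lib.SmallPSL.Basic
import Cfsg.Agent.Lib.DihedralEight.Simple
import Cfsg.Agent.Lib.Linear.PSL2Nine
import Cfsg.Agent.S0984
import Mathlib.GroupTheory.IsSubnormal

/-!
# The case of a dihedral Sylow 2-subgroup of order eight
-/

set_option autoImplicit false

namespace CfsgLib.SmallCent

open CfsgLib.Invol

universe u

variable {G : Type u} [Group G] [Finite G]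

theorem mem_normalizer_of (H : Subgroup G) {g : G} (h : ∀ x ∈ H, g * x * g⁻¹ ∈ H) :
    g ∈ Subgroup.normalizer (H : Set G) := by
  rw [Subgroup.mem_normalizer_iff]
  intro x
  refine ⟨h x, fun hx => ?_⟩
  let f : H → H := fun y => ⟨g * y * g⁻¹, h y y.2⟩
  have hf : Function.Injective f := fun a b e =>
    Subtype.ext (mul_left_cancel (mul_right_cancel (congrArg Subtype.val e)))
  obtain ⟨y, hy⟩ := Finite.injective_iff_surjective.1 hf ⟨_, hx⟩
  have : (y : G) = x := mul_left_cancel (mul_right_cancel (congrArg Subtype.val hy))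
  exact this ▸ y.2

theorem card_mul_card_le (H K : Subgroup G) :
    Nat.card H * Nat.card K ≤ Nat.card G * Nat.card (H ⊓ K : Subgroup G) := by
  have h1 : Nat.card (H ⊓ K : Subgroup G) * H.relIndex K = Nat.card K := by
    rw [← Subgroup.inf_relIndex_right, Subgroup.relIndex,
      ← Nat.card_congr (Subgroup.subgroupOfEquivOfLe (inf_le_right : H ⊓ K ≤ K)).toEquiv,
      Subgroup.card_mul_index]
  have h2 : H.relIndex K ≤ H.index := by
    rw [← H.relIndex_top_right]
    exact Subgroup.relIndex_le_of_le_right le_top (by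
      rw [H.relIndex_top_right]; exact Subgroup.index_ne_zero_of_finite)
  calc Nat.card H * Nat.card K = Nat.card H * (Nat.card (H ⊓ K : Subgroup G) * H.relIndex K) := by
        rw [h1]
    _ ≤ Nat.card H * (Nat.card (H ⊓ K : Subgroup G) * H.index) :=
        Nat.mul_le_mul_left _ (Nat.mul_le_mul_left _ h2)
    _ = _ := by rw [← H.card_mul_index]; ring

theorem card_le_of_index_le_six [IsSimpleGroup G] (H : Subgroup G) (hne : H ≠ ⊤)
    (h6 : H.index ≤ 6) : Nat.card G ≤ 720 := by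
  have hbot : H.normalCore = ⊥ := by
    rcases (inferInstance : H.normalCore.Normal).eq_bot_or_eq_top with e | e
    · exact e
    · exact absurd (top_unique (e ▸ H.normalCore_le)) hne
  have hinj : Function.Injective (MulAction.toPermHom G (G ⧸ H)) := by
    rw [← MonoidHom.ker_eq_bot_iff, ← Subgroup.normalCore_eq_ker, hbot]
  calc Nat.card G ≤ Nat.card (Equiv.Perm (G ⧸ H)) := Nat.card_le_card_of_injective _ hinj
    _ = H.index.factorial := by rw [Nat.card_perm]; rfl
    _ ≤ Nat.factorial 6 := Nat.factorial_le h6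
    _ = 720 := by norm_num [Nat.factorial]

variable {P : Sylow 2 G} {w τ : G}

theorem core_trivial [IsSimpleGroup G] (hG : ¬ IsCyclic G) (S : Setup P w τ)
    (hO : Nat.card (DihPairs.core (w ^ 2)) = 1) : Target G := by
  let f := dihedralHom (n := 4) τ w S.d.sq (by
    have := pow_orderOf_eq_one w
    rwa [S.d.ord] at this) S.d.inv
  have hinj : Function.Injective f := by
    rw [injective_iff_map_eq_one]
    rintro (i | i) hi
    · have h1 : w ^ (i.val : ℤ) = 1 := hi
      rw [zpow_natCast] at h1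
      have h2 := Nat.eq_zero_of_dvd_of_lt (orderOf_dvd_of_pow_eq_one h1)
        (by rw [S.d.ord]; exact ZMod.val_lt i)
      rw [(ZMod.val_eq_zero i).1 h2]
      rfl
    · exfalso
      have h1 : τ * w ^ (i.val : ℤ) = 1 := hi
      refine S.d.not_mem ?_
      rw [eq_inv_of_mul_eq_one_left h1]
      exact inv_mem (Subgroup.zpow_mem_zpowers w _)
  have hrange : f.range = Subgroup.centralizer ({w ^ 2} : Set G) := by
    refine Subgroup.eq_of_le_of_card_ge ?_ ?_
    · rintro _ ⟨(i | i), rfl⟩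
      · exact DihPairs.le_centralizer S.d (zpow_mem S.d.hσ _)
      · exact DihPairs.le_centralizer S.d (mul_mem S.d.hτ (zpow_mem S.d.hσ _))
    · rw [card_centralizer_z S, hO, ← Nat.card_congr (MonoidHom.ofInjective hinj).toEquiv,
        DihedralGroup.nat_card]
  obtain ⟨F, iF, fF, hF, ⟨iso⟩⟩ := CfsgLib.DihedralEight.exists_psl_iso
    ((MonoidHom.ofInjective hinj).trans (MulEquiv.subgroupCongr hrange)).symm
    (DihPairs.orderOf_J S.d) (fun u hu => (S.hone u hu).symm)
  rcases hF with h7 | h9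
  · exact Or.inr (Or.inr (Or.inr ⟨F, iF, fF, h7, ⟨iso⟩⟩))
  · obtain ⟨i⟩ := CfsgLib.Linear.PSL2Nine.exists_PSL2_equiv_A6 h9
    exact Or.inr (Or.inl ⟨iso.trans i⟩)

theorem b_conj (S : Setup P w τ) {a : G} (ha : a ∈ fix w τ) :
    w * τ * a * (w * τ)⁻¹ = a⁻¹ := by
  obtain ⟨ho, hc⟩ := mem_fix.1 ha
  calc w * τ * a * (w * τ)⁻¹ = w * (τ * a * τ⁻¹) * w⁻¹ := by group
    _ = a⁻¹ := by rw [← hc, mul_inv_cancel_right, w_inv S ho]

/-- The fixed group of one reflection is trivial. -/
theorem one_trivial [IsSimpleGroup G] (hG : ¬ IsCyclic G) (S : Setup P w τ)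
    (hA : 1 < Nat.card (fix w τ)) (hB : Nat.card (fix w (w * τ)) = 1) : Target G := by
  have : Fact (Nat.Prime 2) := ⟨Nat.prime_two⟩
  have hperf : commutator G = ⊤ := CfsgLib.SmallPSL.commutator_eq_top (not_comm hG)
  obtain ⟨X, Y, Z, hrel, hX, hY, hZ, hX1, E1, E2⟩ := equations S hperf
  rw [hB] at E1 E2
  set α := Nat.card (fix w τ) with hαd
  obtain ⟨r, hr⟩ := card_fix_odd S τ
  rw [← hαd] at hr
  push_cast at E1 E2
  have hα0 : (α : ℤ) ≠ 0 := by
    have : α ≠ 0 := by omega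
    exact_mod_cast this
  have h : 4 * (α : ℤ) * (X - 1) ^ 2 * (Y * Z) =
      (1 + (α : ℤ)) ^ 2 * (1 + X) ^ 2 * ((1 + Y) * (1 + Z)) := by
    have hne : 64 * (α : ℤ) * X ≠ 0 := mul_ne_zero (mul_ne_zero (by norm_num) hα0) (by omega)
    refine mul_left_cancel₀ hne ?_
    linear_combination ((1 + X) * (1 + Y) * (1 + Z)) * E2 - (X - 1) ^ 2 * E1
  rcases Arith.one_trivial (α := (α : ℤ)) (by omega) (by omega) hrel hX hX1 hY hZ h with
    ⟨ha, rfl⟩ | ⟨ha, rfl⟩
  · rw [ha] at E2
    norm_num at E2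
    refine Or.inr (Or.inr (Or.inl (Cfsg.Agent.S0984.result ?_)))
    omega
  · exfalso
    rw [ha] at E2
    norm_num at E2
    have hG7 : Nat.card G = 7560 := by omega
    have ha5 : α = 5 := by omega
    clear E1 E2 h ha hα0
    have : Fact (Nat.Prime 5) := ⟨by norm_num⟩
    set A := fix w τ with hAd
    have hA5 : Nat.card A = 5 := ha5
    have hAO : A = DihPairs.core (w ^ 2) := Subgroup.eq_of_le_of_card_ge inf_le_left (by
      rw [← card_core S, hB, mul_one])
    set Nr := Subgroup.normalizer (A : Set G) with hNr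
    set M := Subgroup.centralizer (A : Set G) with hM
    have hPN : (P : Subgroup G) ≤ Nr := fun p hp => mem_normalizer_of A fun x hx => by
      rw [hAO] at hx ⊢
      exact DihPairs.core_conj_mem (DihPairs.comm_J S.d hp) hx
    obtain ⟨Q, hQ⟩ := (IsPGroup.of_card (p := 5) (n := 1) (G := A) (by rw [hA5, pow_one])).exists_le_sylow
    have hQA : (Q : Subgroup G) = A := by
      obtain ⟨k, hk⟩ := IsPGroup.iff_card.1 Q.2
      have hd := Subgroup.card_subgroup_dvd_card (Q : Subgroup G)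
      rw [hk, hG7] at hd
      have hk1 : k ≤ 1 := by
        by_contra hlt
        have := (pow_dvd_pow 5 (show 2 ≤ k by omega)).trans hd
        norm_num at this
      refine (Subgroup.eq_of_le_of_card_ge hQ ?_).symm
      rw [hA5, hk]
      calc 5 ^ k ≤ 5 ^ 1 := Nat.pow_le_pow_right (by norm_num) hk1
        _ = 5 := pow_one 5
    have hn5 := card_sylow_modEq_one 5 G
    have hidx : Nr.index = Nat.card (Sylow 5 G) := by
      rw [Sylow.card_eq_index_normalizer Q, hNr, ← hQA]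
      rfl
    rw [← hidx] at hn5
    have hmul := Nr.card_mul_index
    rw [hG7] at hmul
    have h40 : 40 ∣ Nat.card Nr := by
      have h8 : Nat.card (P : Subgroup G) ∣ Nat.card Nr := Subgroup.card_dvd_of_le hPN
      have h5 : Nat.card A ∣ Nat.card Nr := Subgroup.card_dvd_of_le Subgroup.le_normalizer
      rw [S.d.card] at h8
      rw [hA5] at h5
      exact Nat.Coprime.mul_dvd_of_dvd_of_dvd (by norm_num : Nat.Coprime 8 5) h8 h5
    obtain ⟨m, hm⟩ := h40
    have h189 : Nr.index ∣ 189 := ⟨m, by rw [hm] at hmul; linarith⟩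
    have hne1 : Nr.index ≠ 1 := by
      intro e
      rw [Subgroup.index_eq_one, hNr, Subgroup.normalizer_eq_top_iff] at e
      rcases e.eq_bot_or_eq_top with e | e
      · rw [e, Subgroup.card_bot] at hA5; omega
      · rw [e, Subgroup.card_top] at hA5; omega
    have hle : Nr.index ≤ 189 := Nat.le_of_dvd (by norm_num) h189
    have h21 : Nr.index = 21 := by
      have hm5 : Nr.index % 5 = 1 := hn5
      have hmem : Nr.index ∈ Nat.divisors 189 := Nat.mem_divisors.2 ⟨h189, by norm_num⟩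
      rw [show Nat.divisors 189 = {1, 3, 7, 9, 21, 27, 63, 189} by decide +kernel] at hmem
      simp only [Finset.mem_insert, Finset.mem_singleton] at hmem
      omega
    have hNc : Nat.card Nr = 360 := by rw [h21] at hmul; omega
    -- the index of the centraliser
    have hr4 : M.relIndex Nr ∣ 4 := by
      let φ : Nr →* MulAut A := A.normalizerMonoidHom
      have hk : φ.ker = M.subgroupOf Nr := Subgroup.normalizerMonoidHom_ker A
      have hcyc : IsCyclic A := isCyclic_of_prime_card hA5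
      rw [Subgroup.relIndex, ← hk, Subgroup.index_ker]
      refine (Subgroup.card_subgroup_dvd_card _).trans ?_
      rw [IsCyclic.card_mulAut, hA5, Nat.totient_prime (by norm_num : Nat.Prime 5)]
    have hMN : M ≤ Nr := fun g hg => mem_normalizer_of A fun x hx => by
      rw [← Subgroup.mem_centralizer_iff.1 hg x hx, mul_inv_cancel_right]
      exact hx
    obtain ⟨g₀, a, b, c, ε, δ, η, hg₀, hMc, ⟨h1, h2, h3⟩, ⟨he, hd, hh⟩, hrel', -, hk⟩ :=
      centralizer_fix S hA
    rw [← hM] at hMc hk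
    have hmul2 : Nat.card M * M.relIndex Nr = 360 := by
      rw [← hNc, ← Nat.card_congr (Subgroup.subgroupOfEquivOfLe hMN).toEquiv, Subgroup.relIndex,
        Subgroup.card_mul_index]
    have hM180 : Nat.card M = 180 := by
      obtain ⟨k, hk⟩ := hg₀
      have hr' : M.relIndex Nr ∈ Nat.divisors 4 := Nat.mem_divisors.2 ⟨hr4, by norm_num⟩
      rw [show Nat.divisors 4 = {1, 2, 4} by decide +kernel] at hr'
      simp only [Finset.mem_insert, Finset.mem_singleton] at hr'
      rcases hr' with e | e | e <;> rw [e] at hmul2 <;> omega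
    rw [hM180, hA5, hB] at hk
    push_cast at hk
    exact Arith.no_nine_eighths h1 h2 h3 he hd hh hrel' (by linarith)

theorem core_le_sup (S : Setup P w τ) :
    DihPairs.core (w ^ 2) = fix w τ ⊔ fix w (w * τ) := by
  refine (Subgroup.eq_of_le_of_card_ge (sup_le inf_le_left inf_le_left) ?_).symm
  rw [← card_core S, ← Nat.card_prod]
  refine Nat.card_le_card_of_injective (fun q => (⟨(q.1 : G) * q.2,
    mul_mem (Subgroup.mem_sup_left q.1.2) (Subgroup.mem_sup_right q.2.2)⟩ :
      (fix w τ ⊔ fix w (w * τ) : Subgroup G))) ?_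
  rintro ⟨a, b⟩ ⟨a', b'⟩ e
  have e' : (a : G) * b = a' * b' := congrArg Subtype.val e
  have e1 : (a' : G)⁻¹ * a = b' * (b : G)⁻¹ := by
    rw [eq_mul_inv_iff_mul_eq, mul_assoc, e', inv_mul_cancel_left]
  obtain ⟨hc, hf⟩ := mem_fix.1 (mul_mem (inv_mem a'.2) a.2)
  obtain ⟨-, hi⟩ := (mem_fix_b_iff S).1 (mul_mem b'.2 (inv_mem b.2))
  rw [← e1, ← hf, mul_inv_cancel_right] at hi
  have h1 : (a' : G)⁻¹ * a = 1 := eq_one_of_sq S hc (by
    nth_rw 1 [hi]; exact inv_mul_cancel _)
  have ha : a = a' := Subtype.ext (inv_mul_eq_one.1 h1).symm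
  subst ha
  exact Prod.ext rfl (Subtype.ext (mul_left_cancel e'))

theorem mem_core_iff (S : Setup P w τ) {x : G} :
    x ∈ DihPairs.core (w ^ 2) ↔ x * w ^ 2 = w ^ 2 * x ∧ Odd (orderOf x) := by
  have : Fact (Nat.Prime 2) := ⟨Nat.prime_two⟩
  obtain ⟨hi, ho⟩ := DihPairs.index_core S.d
  haveI := CfsgLib.Solvable.pPrimeCore_normal 2 (Subgroup.centralizer ({w ^ 2} : Set G))
  constructor
  · intro hx
    refine ⟨z_comm S hx, Nat.odd_iff.2 ?_⟩
    have := DihPairs.core_odd S.d hx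
    omega
  · rintro ⟨hx, hodd⟩
    refine ⟨⟨x, Subgroup.mem_centralizer_singleton_iff.2 hx⟩,
      (BlockCol.regular_iff_mem _ ho (k := 3) (by rw [hi]; norm_num) _).1 ?_, rfl⟩
    rw [Subgroup.orderOf_mk]
    rw [Nat.odd_iff] at hodd
    omega

theorem card_centralizer_invol (S : Setup P w τ) {s : G} (hs : orderOf s = 2) :
    Nat.card (Subgroup.centralizer ({s} : Set G)) =
      8 * (Nat.card (fix w τ) * Nat.card (fix w (w * τ))) := by
  obtain ⟨g, hg⟩ := isConj_iff.1 (S.hone s hs)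
  rw [card_core S, ← card_centralizer_z S, ← hg, card_centralizer_conj]

/-- Both fixed groups nontrivial, one much larger than the other. -/
theorem both_far [IsSimpleGroup G] (hG : ¬ IsCyclic G) (S : Setup P w τ)
    (hA : 3 ≤ Nat.card (fix w τ)) (hfar : 3 * Nat.card (fix w τ) ≤ Nat.card (fix w (w * τ)))
    (hbound : 3 * Nat.card G ≤ 1400 * (Nat.card (fix w τ) * Nat.card (fix w (w * τ))) ^ 2) :
    False := by
  set α := Nat.card (fix w τ) with hα
  set β := Nat.card (fix w (w * τ)) with hβ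
  have hMlow := card_centralizer_fix_ge S (by omega : 1 < Nat.card (fix w τ))
  rw [← hα, ← hβ] at hMlow
  set A := fix w τ with hAd
  set M := Subgroup.centralizer (A : Set G) with hM
  set Nr := Subgroup.normalizer (A : Set G) with hNr
  have hb : w * τ ∈ Nr := mem_normalizer_of A fun x hx => by rw [b_conj S hx]; exact inv_mem hx
  obtain ⟨⟨a, ha⟩, ha1⟩ : ∃ a : A, a ≠ 1 :=
    haveI : Nontrivial A := Finite.one_lt_card_iff_nontrivial.1 (by omega)
    exists_ne 1
  have hbM : w * τ ∉ M := fun hm => by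
    have h1 := Subgroup.mem_centralizer_iff.1 hm a ha
    have h2 := b_conj S ha
    rw [← h1, mul_inv_cancel_right] at h2
    exact ha1 (Subtype.ext (eq_one_of_sq S (mem_fix.1 ha).1 (mul_eq_one_iff_eq_inv.2 h2)))
  have hMN : M ≤ Nr := fun g hg => mem_normalizer_of A fun x hx => by
    rw [← Subgroup.mem_centralizer_iff.1 hg x hx, mul_inv_cancel_right]
    exact hx
  have h2 : 2 * Nat.card M ≤ Nat.card Nr := by
    obtain ⟨k, hk⟩ := Subgroup.card_dvd_of_le hMN
    have hk1 : k ≠ 1 := by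
      rintro rfl
      rw [mul_one] at hk
      exact hbM (Subgroup.eq_of_le_of_card_ge hMN hk.le ▸ hb)
    have hk0 : k ≠ 0 := by
      rintro rfl
      simp only [mul_zero] at hk
      exact Nat.card_pos.ne' hk
    rw [hk, mul_comm]
    exact Nat.mul_le_mul_left _ (by omega)
  have hidx := Nr.card_mul_index
  have hi6 : Nr.index ≤ 6 := by
    by_contra hlt
    have h7 : Nat.card Nr * 7 ≤ Nat.card G := hidx ▸ Nat.mul_le_mul_left _ (by omega)
    have hpos : 0 < α * β ^ 2 := Nat.mul_pos (by omega) (pow_pos (by omega) 2)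
    have h9 : 504 * β * (α * β ^ 2) ≤ 1400 * α * (α * β ^ 2) := by
      have e : 1400 * α * (α * β ^ 2) = 1400 * (α * β) ^ 2 := by ring
      have e' : 504 * β * (α * β ^ 2) = 504 * (α * β ^ 3) := by ring
      rw [e, e']
      omega
    have := Nat.le_of_mul_le_mul_right h9 hpos
    omega
  rcases eq_or_ne Nr ⊤ with e | e
  · rw [hNr, Subgroup.normalizer_eq_top_iff] at e
    rcases e.eq_bot_or_eq_top with e | e
    · rw [hα, e, Subgroup.card_bot] at hA; omega
    · have h3 : Even (Nat.card G) := even_iff_two_dvd.2 ((dvd_mul_left 2 4).trans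
        (S.d.card ▸ Subgroup.card_subgroup_dvd_card (P : Subgroup G)))
      have h4 := card_fix_odd S τ
      rw [← hAd, e, Subgroup.card_top] at h4
      exact Nat.not_even_iff_odd.2 h4 h3
  · have h720 := card_le_of_index_le_six Nr e hi6
    have hle : Nat.card Nr ≤ Nat.card G := Nat.le_of_dvd Nat.card_pos (Subgroup.card_subgroup_dvd_card _)
    have h9 : 9 ^ 3 ≤ β ^ 3 := Nat.pow_le_pow_left (by omega) 3
    have h10 : 3 * 9 ^ 3 ≤ α * β ^ 3 := Nat.mul_le_mul hA h9
    omega

/-- Both fixed groups nontrivial and of similar size. -/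
theorem both_near [IsSimpleGroup G] (hG : ¬ IsCyclic G) (S : Setup P w τ)
    (hA : 3 ≤ Nat.card (fix w τ)) (hle : Nat.card (fix w τ) ≤ Nat.card (fix w (w * τ)))
    (hnear : Nat.card (fix w (w * τ)) < 3 * Nat.card (fix w τ))
    (hbound : 3 * Nat.card G ≤ 1400 * (Nat.card (fix w τ) * Nat.card (fix w (w * τ))) ^ 2) :
    False := by
  have : Fact (Nat.Prime 2) := ⟨Nat.prime_two⟩
  set α := Nat.card (fix w τ) with hα
  set β := Nat.card (fix w (w * τ)) with hβ
  have hA1 : 1 < Nat.card (fix w τ) := by omega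
  have hB1 : 1 < Nat.card (fix w (w * τ)) := by omega
  have hA' : 1 < Nat.card (fix w (w * (w * τ))) := by rw [fix_swap_swap S]; exact hA1
  obtain ⟨N, hN, hNodd, hNc⟩ := exists_odd_part S hA1 hB1
  obtain ⟨hn1, hsum⟩ := card_odd_part S hA1 hB1 hN hNodd
  obtain ⟨hn2, -⟩ := card_odd_part (swap S) hB1 hA' hN hNodd
  set O := DihPairs.core (w ^ 2) with hO
  set K := N ⊓ Subgroup.centralizer ({τ} : Set G) with hK
  set K' := N ⊓ Subgroup.centralizer ({w * τ} : Set G) with hK'
  have hocard : Nat.card O = α * β := (card_core S).symm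
  rw [← hα, hocard] at hn1
  rw [← hβ, hocard] at hn2
  have hOc : ∀ o ∈ O, ∀ o' ∈ O, o * o' = o' * o := fun o ho o' ho' => core_comm S ho ho'
  have hON : O ≤ N := fun o ho => (hN o).2 ⟨fun o' ho' => hOc o' ho' o ho, ((mem_core_iff S).1 ho).2⟩
  have hτo : orderOf τ = 2 := orderOf_eq_two (fun h => S.d.not_mem (h ▸ one_mem _)) S.d.sq
  have hbo : orderOf (w * τ) = 2 :=
    orderOf_eq_two (fun h => (swap S).d.not_mem (h ▸ one_mem _)) (swap S).d.sq
  -- the parameter
  have hkey : ∀ r : G, orderOf r = 2 → ∀ H : Subgroup G, H ≤ N ⊓ Subgroup.centralizer ({r} : Set G) →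
      Nat.card (N ⊓ Subgroup.centralizer ({r} : Set G) : Subgroup G) ∣ α * β := by
    intro r hr H _
    have hd := Subgroup.card_dvd_of_le (inf_le_right : N ⊓ Subgroup.centralizer ({r} : Set G) ≤ _)
    rw [card_centralizer_invol S hr, ← hα, ← hβ] at hd
    have hodd : Odd (Nat.card (N ⊓ Subgroup.centralizer ({r} : Set G) : Subgroup G)) :=
      Odd.of_dvd_nat hNodd (Subgroup.card_dvd_of_le inf_le_left)
    exact ((Nat.coprime_two_left.2 hodd).pow_left 3).symm.dvd_of_dvd_mul_left hd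
  have hAK : fix w τ ≤ K := fun x hx => Subgroup.mem_inf.2 ⟨hON (mem_fix.1 hx).1,
    Subgroup.mem_centralizer_singleton_iff.2 (mem_fix.1 hx).2⟩
  have hBK : fix w (w * τ) ≤ K' := fun x hx => Subgroup.mem_inf.2 ⟨hON (mem_fix.1 hx).1,
    Subgroup.mem_centralizer_singleton_iff.2 (mem_fix.1 hx).2⟩
  obtain ⟨γ, hγ⟩ := Subgroup.card_dvd_of_le hAK
  obtain ⟨γ', hγ'⟩ := Subgroup.card_dvd_of_le hBK
  rw [← hα] at hγ
  rw [← hβ] at hγ'
  have hKd := hkey τ hτo _ hAK
  have hK'd := hkey (w * τ) hbo _ hBK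
  rw [← hK, hγ] at hKd
  rw [← hK', hγ'] at hK'd
  have hγβ : γ ∣ β := (Nat.mul_dvd_mul_iff_left (by omega : 0 < α)).1 hKd
  have hγα : γ' ∣ α := (Nat.mul_dvd_mul_iff_left (by omega : 0 < β)).1 (by rwa [mul_comm α β] at hK'd)
  rw [hγ] at hn1
  rw [hγ'] at hn2
  have hn : Nat.card N = α * β * γ ^ 2 := by
    refine Nat.eq_of_mul_eq_mul_right (pow_pos (by omega : 0 < α) 2) ?_
    rw [hn1]; ring
  have hγγ : γ = γ' := by
    have h : Nat.card N = α * β * γ' ^ 2 := by
      refine Nat.eq_of_mul_eq_mul_right (pow_pos (by omega : 0 < β) 2) ?_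
      rw [hn2]; ring
    rw [hn] at h
    exact Nat.pow_left_injective two_ne_zero
      (Nat.eq_of_mul_eq_mul_left (Nat.mul_pos (by omega) (by omega)) h)
  subst hγγ
  obtain ⟨u, hu⟩ := hγα
  obtain ⟨v, hv⟩ := hγβ
  -- the lower bound for `|G|`
  have hM := card_centralizer_fix_ge S hA1
  have hM' := card_centralizer_fix_ge (swap S) hB1
  rw [fix_swap_swap S] at hM'
  rw [← hα, ← hβ] at hM hM'
  have hinf : Subgroup.centralizer (fix w τ : Set G) ⊓ Subgroup.centralizer (fix w (w * τ) : Set G) ≤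
      Subgroup.centralizer (O : Set G) := by
    intro x hx
    rw [Subgroup.mem_inf] at hx
    rw [hO, core_le_sup S, Subgroup.mem_centralizer_iff]
    intro o ho
    have hle' : fix w τ ⊔ fix w (w * τ) ≤ Subgroup.centralizer ({x} : Set G) :=
      sup_le
        (fun y hy => Subgroup.mem_centralizer_singleton_iff.2 (Subgroup.mem_centralizer_iff.1 hx.1 y hy))
        (fun y hy => Subgroup.mem_centralizer_singleton_iff.2 (Subgroup.mem_centralizer_iff.1 hx.2 y hy))
    exact Subgroup.mem_centralizer_singleton_iff.1 (hle' ho)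
  have hbig := (Nat.mul_le_mul hM hM').trans ((card_mul_card_le _ _).trans
    (Nat.mul_le_mul_left _ (Subgroup.card_le_of_le hinf)))
  rw [← hNc, hn] at hbig
  have huv : u = 1 ∧ v = 1 := by
    have hα0 : 0 < α := by omega
    have hγ0 : 0 < γ := Nat.pos_of_ne_zero (by rintro rfl; simp at hu; omega)
    have h1 : 432 * (α * β) * (α * β) ^ 3 ≤ 2800 * γ ^ 2 * (α * β) ^ 3 := by
      have h2 : 3 * (12 * (α * β ^ 3) * (12 * (β * α ^ 3))) ≤
          3 * Nat.card G * (2 * (α * β * γ ^ 2)) := by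
        rw [mul_assoc 3 (Nat.card G)]
        exact Nat.mul_le_mul_left 3 hbig
      have h3 := h2.trans (Nat.mul_le_mul_right _ hbound)
      calc 432 * (α * β) * (α * β) ^ 3 = 3 * (12 * (α * β ^ 3) * (12 * (β * α ^ 3))) := by ring
        _ ≤ 1400 * (α * β) ^ 2 * (2 * (α * β * γ ^ 2)) := h3
        _ = _ := by ring
    have h4 := Nat.le_of_mul_le_mul_right h1 (pow_pos (Nat.mul_pos hα0 (by omega)) 3)
    rw [hu, hv] at h4
    have h5 : 432 * (u * v) * γ ^ 2 ≤ 2800 * γ ^ 2 := by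
      calc 432 * (u * v) * γ ^ 2 = 432 * (γ * u * (γ * v)) := by ring
        _ ≤ _ := h4
    have h6 := Nat.le_of_mul_le_mul_right h5 (pow_pos hγ0 2)
    have huo : Odd u := by
      have h := card_fix_odd S τ
      rw [← hα, hu] at h
      exact (Nat.odd_mul.1 h).2
    have hvo : Odd v := by
      have h := card_fix_odd S (w * τ)
      rw [← hβ, hv] at h
      exact (Nat.odd_mul.1 h).2
    rw [hu, hv] at hle hnear
    have h7 : u ≤ v := Nat.le_of_mul_le_mul_left hle hγ0
    have h8 : v < 3 * u := Nat.lt_of_mul_lt_mul_left (a := γ) (by linarith)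
    obtain ⟨i, rfl⟩ := huo
    obtain ⟨j, rfl⟩ := hvo
    have h10 : (2 * i + 1) * (2 * i + 1) ≤ (2 * i + 1) * (2 * j + 1) := Nat.mul_le_mul_left _ h7
    have hi : i = 0 := by nlinarith
    subst hi
    omega
  obtain ⟨rfl, rfl⟩ := huv
  rw [mul_one] at hu hv
  have hαγ : α = γ := hu
  have hβα : β = α := by omega
  -- the odd part of the centraliser of every involution of the four-group
  have hPnorm : ∀ p ∈ (P : Subgroup G), ∀ x ∈ N, p * x * p⁻¹ ∈ N := by
    intro p hp x hx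
    obtain ⟨h1, h2⟩ := (hN x).1 hx
    refine (hN _).2 ⟨fun o ho => ?_, by rwa [orderOf_conj]⟩
    have h3 := h1 _ (DihPairs.core_conj_mem (DihPairs.comm_J S.d (inv_mem hp)) ho)
    rw [inv_inv] at h3
    calc o * (p * x * p⁻¹) = p * (p⁻¹ * o * p * x) * p⁻¹ := by group
      _ = p * (x * (p⁻¹ * o * p)) * p⁻¹ := by rw [h3]
      _ = _ := by group
  have htot : ∀ r : G, orderOf r = 2 →
      Nat.card (N ⊓ Subgroup.centralizer ({r} : Set G) : Subgroup G) = α * β →
      ∀ x, x * r = r * x → Odd (orderOf x) → x ∈ N := by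
    intro r hr hcard x hx hxo
    obtain ⟨g, hg⟩ := isConj_iff.1 (S.hone r hr)
    let f : (N ⊓ Subgroup.centralizer ({r} : Set G) : Subgroup G) → O := fun y =>
      ⟨g⁻¹ * y * g, by
        refine (mem_core_iff S).2 ⟨?_, ?_⟩
        · have h' := Subgroup.mem_centralizer_singleton_iff.1 (Subgroup.mem_inf.1 y.2).2
          have h : (y : G) * (g * w ^ 2 * g⁻¹) = g * w ^ 2 * g⁻¹ * (y : G) := by rw [hg]; exact h'
          calc g⁻¹ * y * g * w ^ 2 = g⁻¹ * ((y : G) * (g * w ^ 2 * g⁻¹)) * g := by group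
            _ = _ := by rw [h]; group
        · have h := ((hN _).1 (Subgroup.mem_inf.1 y.2).1).2
          rwa [← orderOf_conj g⁻¹, inv_inv] at h⟩
    have hf : Function.Injective f := fun a b e =>
      Subtype.ext (mul_left_cancel (mul_right_cancel (congrArg Subtype.val e)))
    have hbij := hf.bijective_of_nat_card_le (by rw [hcard, hocard])
    obtain ⟨y, hy⟩ := hbij.2 ⟨g⁻¹ * x * g, (mem_core_iff S).2 ⟨by
      rw [← hg] at hx
      calc g⁻¹ * x * g * w ^ 2 = g⁻¹ * (x * (g * w ^ 2 * g⁻¹)) * g := by group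
        _ = _ := by rw [hx]; group, by
      rwa [← orderOf_conj g⁻¹, inv_inv] at hxo⟩⟩
    have : (y : G) = x := mul_left_cancel (mul_right_cancel (congrArg Subtype.val hy))
    exact this ▸ (Subgroup.mem_inf.1 y.2).1
  have hz : ∀ x, x * w ^ 2 = w ^ 2 * x → Odd (orderOf x) → x ∈ N := fun x h1 h2 =>
    hON ((mem_core_iff S).2 ⟨h1, h2⟩)
  have ht : ∀ x, x * τ = τ * x → Odd (orderOf x) → x ∈ N :=
    htot τ hτo (by rw [← hK, hγ, ← hαγ, hβα])
  have hb : ∀ x, x * (w * τ) = (w * τ) * x → Odd (orderOf x) → x ∈ N :=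
    htot (w * τ) hbo (by rw [← hK', hγ', ← hαγ, hβα])
  have hzr : ∀ r : G, w * r * w⁻¹ = w ^ 2 * r →
      (∀ x, x * r = r * x → Odd (orderOf x) → x ∈ N) →
      ∀ x, x * (w ^ 2 * r) = w ^ 2 * r * x → Odd (orderOf x) → x ∈ N := by
    intro r hr h x hx hxo
    rw [← hr] at hx
    have hm := hPnorm w S.d.hσ _ (h (w⁻¹ * x * w) (by
      calc w⁻¹ * x * w * r = w⁻¹ * (x * (w * r * w⁻¹)) * w := by group
        _ = _ := by rw [hx]; group) (by rwa [← orderOf_conj w⁻¹, inv_inv] at hxo))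
    rwa [show w * (w⁻¹ * x * w) * w⁻¹ = x by group] at hm
  -- normalising elements
  have hnormal : ∀ (r d : G), w * r * w⁻¹ = w ^ 2 * r →
      d * w ^ 2 * d⁻¹ = w ^ 2 * r → d * r * d⁻¹ = w ^ 2 → r * r = 1 → r * w ^ 2 = w ^ 2 * r →
      (∀ x, x * r = r * x → Odd (orderOf x) → x ∈ N) →
      N = O ⊔ (N ⊓ Subgroup.centralizer ({r} : Set G)) ⊔
        (N ⊓ Subgroup.centralizer ({w ^ 2 * r} : Set G)) →
      ∀ x ∈ N, d * x * d⁻¹ ∈ N := by
    intro r d hr d1 d2 hr2 hrz h hs
    have d3 : d * (w ^ 2 * r) * d⁻¹ = r := by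
      calc d * (w ^ 2 * r) * d⁻¹ = d * w ^ 2 * d⁻¹ * (d * r * d⁻¹) := by group
        _ = r := by rw [d1, d2, mul_assoc, hrz, ← mul_assoc, z_mul_z S, one_mul]
    have key : ∀ s x : G, x * s = s * x → Odd (orderOf x) →
        (d * x * d⁻¹) * (d * s * d⁻¹) = (d * s * d⁻¹) * (d * x * d⁻¹) ∧
          Odd (orderOf (d * x * d⁻¹)) := fun s x h1 h2 =>
      ⟨((Commute.conj_iff d).2 h1).eq, by rwa [orderOf_conj]⟩
    suffices hle' : N ≤ N.comap (MulAut.conj d).toMonoidHom from fun x hx => hle' hx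
    conv_lhs => rw [hs]
    refine sup_le (sup_le ?_ ?_) ?_
    · intro x hx
      obtain ⟨k1, k2⟩ := key (w ^ 2) x (z_comm S hx) ((mem_core_iff S).1 hx).2
      rw [d1] at k1
      exact hzr r hr h _ k1 k2
    · intro x hx
      obtain ⟨h1, h2⟩ := Subgroup.mem_inf.1 hx
      obtain ⟨k1, k2⟩ := key r x (Subgroup.mem_centralizer_singleton_iff.1 h2) ((hN x).1 h1).2
      rw [d2] at k1
      exact hz _ k1 k2
    · intro x hx
      obtain ⟨h1, h2⟩ := Subgroup.mem_inf.1 hx
      obtain ⟨k1, k2⟩ := key (w ^ 2 * r) x (Subgroup.mem_centralizer_singleton_iff.1 h2) ((hN x).1 h1).2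
      rw [d3] at k1
      exact h _ k1 k2
  obtain ⟨d, d1, d2, -⟩ := exists_cycle S
  obtain ⟨d', d1', d2', -⟩ := exists_cycle (swap S)
  obtain ⟨-, hsum'⟩ := card_odd_part (swap S) hB1 hA' hN hNodd
  set L := Subgroup.normalizer (N : Set G) with hL
  have hdL : d ∈ L := mem_normalizer_of N
    (hnormal τ d (w_tau S) d1 d2 S.d.sq (tau_z S) ht hsum)
  have hdL' : d' ∈ L := mem_normalizer_of N
    (hnormal (w * τ) d' (w_tau (swap S)) d1' d2' (swap S).d.sq (tau_z (swap S)) hb hsum')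
  have hPL : (P : Subgroup G) ≤ L := fun p hp => mem_normalizer_of N (hPnorm p hp)
  have hNL : N ≤ L := Subgroup.le_normalizer
  set N' := N.subgroupOf L with hN'
  haveI : N'.Normal := Subgroup.normal_in_normalizer
  -- the quotient
  set π := QuotientGroup.mk' N' with hπ
  let ι : (P : Subgroup G) →* L ⧸ N' := π.comp (Subgroup.inclusion hPL)
  have hι : Function.Injective ι := by
    rw [injective_iff_map_eq_one]
    intro p hp
    have h1 : (p : G) ∈ N := (QuotientGroup.eq_one_iff (N := N') (Subgroup.inclusion hPL p)).1 hp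
    obtain ⟨k, hk⟩ := IsPGroup.iff_orderOf.1 P.2 p
    have h2 := ((hN _).1 h1).2
    rw [Subgroup.orderOf_coe, hk] at h2
    rcases Nat.eq_zero_or_pos k with rfl | hk0
    · exact orderOf_eq_one_iff.1 (by rw [hk, pow_zero])
    · rw [Nat.odd_iff] at h2
      have := dvd_pow_self 2 (by omega : k ≠ 0)
      omega
  have hzP : w ^ 2 ∈ (P : Subgroup G) := pow_mem S.d.hσ 2
  set zq := ι ⟨w ^ 2, hzP⟩ with hzq
  set tq := ι ⟨τ, S.d.hτ⟩ with htq
  set sq' := ι ⟨w ^ 2 * τ, mul_mem hzP S.d.hτ⟩ with hsq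
  set bq := ι ⟨w * τ, mul_mem S.d.hσ S.d.hτ⟩ with hbq
  set cq := ι ⟨w ^ 2 * (w * τ), mul_mem hzP (mul_mem S.d.hσ S.d.hτ)⟩ with hcq
  set D := π ⟨d, hdL⟩ with hD
  set D' := π ⟨d', hdL'⟩ with hD'
  have hι' : ∀ (g : L) (p q : (P : Subgroup G)), (g : G) * p * (g : G)⁻¹ = q →
      π g * ι p * (π g)⁻¹ = ι q := fun g p q e => by
    show π g * π _ * (π g)⁻¹ = π _
    rw [← map_mul, ← map_inv, ← map_mul]
    exact congrArg π (Subtype.ext e)
  have hDz : D * zq * D⁻¹ = sq' := hι' ⟨d, hdL⟩ _ _ d1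
  have hDt : D * tq * D⁻¹ = zq := hι' ⟨d, hdL⟩ _ _ d2
  have hDs : D * sq' * D⁻¹ = tq := hι' ⟨d, hdL⟩ _ _ (by
    show d * (w ^ 2 * τ) * d⁻¹ = τ
    calc d * (w ^ 2 * τ) * d⁻¹ = d * w ^ 2 * d⁻¹ * (d * τ * d⁻¹) := by group
      _ = τ := by rw [d1, d2, mul_assoc, tau_z S, ← mul_assoc, z_mul_z S, one_mul])
  have hDz' : D' * zq * D'⁻¹ = cq := hι' ⟨d', hdL'⟩ _ _ d1'
  have hDc : D' * cq * D'⁻¹ = bq := hι' ⟨d', hdL'⟩ _ _ (by
    show d' * (w ^ 2 * (w * τ)) * d'⁻¹ = w * τ
    calc d' * (w ^ 2 * (w * τ)) * d'⁻¹ = d' * w ^ 2 * d'⁻¹ * (d' * (w * τ) * d'⁻¹) := by group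
      _ = w * τ := by
        rw [d1', d2', mul_assoc, tau_z (swap S), ← mul_assoc, z_mul_z S, one_mul])
  -- five different conjugates of the image of `z`
  let conjs : Fin 5 → L ⧸ N' := ![zq, sq', tq, cq, bq]
  let gs : Fin 5 → L ⧸ N' := ![1, D, D * D, D', D' * D']
  have hgs : ∀ i, gs i * zq * (gs i)⁻¹ = conjs i := by
    intro i
    fin_cases i
    · simp [gs, conjs]
    · exact hDz
    · show D * D * zq * (D * D)⁻¹ = tq
      calc D * D * zq * (D * D)⁻¹ = D * (D * zq * D⁻¹) * D⁻¹ := by group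
        _ = _ := by rw [hDz, hDs]
    · exact hDz'
    · show D' * D' * zq * (D' * D')⁻¹ = bq
      calc D' * D' * zq * (D' * D')⁻¹ = D' * (D' * zq * D'⁻¹) * D'⁻¹ := by group
        _ = _ := by rw [hDz', hDc]
  have hconjs : Function.Injective conjs := by
    let l : Fin 5 → G := ![w ^ 2, w ^ 2 * τ, τ, w ^ 2 * (w * τ), w * τ]
    have hl : ∀ i, ∃ h : l i ∈ (P : Subgroup G), conjs i = ι ⟨l i, h⟩ := by
      intro i; fin_cases i <;> exact ⟨_, rfl⟩
    have e : ∀ i j : ℕ, i < 4 → j < 4 → w ^ i * τ = w ^ j * τ → i = j := fun i j hi hj h =>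
      pow_injOn_Iio_orderOf (x := w) (by rw [Set.mem_Iio, S.d.ord]; omega)
        (by rw [Set.mem_Iio, S.d.ord]; omega) (mul_right_cancel h)
    have hne : ∀ i j : Fin 5, l i = l j → i = j := by
      have l0 : l 0 = w ^ 2 := rfl
      have lw : ∀ i : Fin 5, i ≠ 0 → ∃ k, k < 4 ∧ l i = w ^ k * τ ∧ k = ![0, 2, 0, 3, 1] i := by
        intro i hi
        fin_cases i
        · exact absurd rfl hi
        · exact ⟨2, by norm_num, rfl, rfl⟩
        · exact ⟨0, by norm_num, by simp [l], rfl⟩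
        · exact ⟨3, by norm_num, by
            show w ^ 2 * (w * τ) = w ^ 3 * τ
            rw [← mul_assoc, ← pow_succ], rfl⟩
        · exact ⟨1, by norm_num, by simp [l], rfl⟩
      intro i j h
      rcases eq_or_ne i 0 with hi | hi <;> rcases eq_or_ne j 0 with hj | hj
      · rw [hi, hj]
      · obtain ⟨k, -, hk, -⟩ := lw j hj
        rw [hi, l0, hk] at h
        exact absurd h.symm (DihPairs.refl_ne S.d k 2)
      · obtain ⟨k, -, hk, -⟩ := lw i hi
        rw [hj, l0, hk] at h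
        exact absurd h (DihPairs.refl_ne S.d k 2)
      · obtain ⟨k, hk4, hk, hkv⟩ := lw i hi
        obtain ⟨m, hm4, hm, hmv⟩ := lw j hj
        rw [hk, hm] at h
        have := e k m hk4 hm4 h
        subst this
        revert hkv hmv hi hj
        fin_cases i <;> fin_cases j <;> simp <;> omega
    intro i j h
    obtain ⟨hi, ei⟩ := hl i
    obtain ⟨hj, ej⟩ := hl j
    rw [ei, ej] at h
    exact hne i j (congrArg Subtype.val (hι h))
  have h40 : 40 ≤ Nat.card (L ⧸ N') := by
    rw [show (40 : ℕ) = Nat.card (Fin 5 × (P : Subgroup G)) by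
      rw [Nat.card_prod, Nat.card_fin, S.d.card]]
    refine Nat.card_le_card_of_injective (fun q => gs q.1 * ι q.2) ?_
    rintro ⟨i, p⟩ ⟨j, q⟩ h
    have h' : gs i * ι p = gs j * ι q := h
    have hcp : ∀ p : (P : Subgroup G), ι p * zq * (ι p)⁻¹ = zq := fun p => by
      rw [hzq, ← map_inv, ← map_mul, ← map_mul]
      congr 1
      refine Subtype.ext ?_
      show (p : G) * w ^ 2 * (p : G)⁻¹ = w ^ 2
      rw [DihPairs.comm_J S.d p.2, mul_inv_cancel_right]
    have hij : conjs i = conjs j := by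
      rw [← hgs, ← hgs]
      calc gs i * zq * (gs i)⁻¹ = gs i * (ι p * zq * (ι p)⁻¹) * (gs i)⁻¹ := by rw [hcp]
        _ = gs i * ι p * zq * (gs i * ι p)⁻¹ := by group
        _ = gs j * (ι q * zq * (ι q)⁻¹) * (gs j)⁻¹ := by rw [h']; group
        _ = _ := by rw [hcp]
    obtain rfl := hconjs hij
    exact Prod.ext rfl (hι (mul_left_cancel h'))
  set n := Nat.card (L ⧸ N') with hnd
  have h8 : 8 ∣ n := by
    have := Subgroup.card_subgroup_dvd_card ι.range
    rwa [← Nat.card_congr (MonoidHom.ofInjective hι).toEquiv, S.d.card] at this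
  have h3 : 3 ∣ n := by
    by_contra h3
    have hD3 : Commute (D ^ 3) zq := by
      refine mul_inv_eq_iff_eq_mul.1 ?_
      calc D ^ 3 * zq * (D ^ 3)⁻¹ = D * (D * (D * zq * D⁻¹) * D⁻¹) * D⁻¹ := by
            rw [pow_succ, sq]; group
        _ = zq := by rw [hDz, hDs, hDt]
    have hn1 : D ^ n = 1 := pow_card_eq_one'
    obtain ⟨k, r, hr, hnk⟩ : ∃ k r, (r = 1 ∨ r = 2) ∧ n = r + 3 * k := ⟨n / 3, n % 3, by omega, by omega⟩
    rw [hnk, pow_add, pow_mul, mul_eq_one_iff_eq_inv] at hn1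
    have hc : D ^ r * zq * (D ^ r)⁻¹ = zq := by
      rw [hn1, ← ((hD3.pow_left k).inv_left).eq.symm, mul_inv_cancel_right]
    rcases hr with rfl | rfl
    · rw [pow_one, hDz] at hc
      have h01 : conjs 1 = conjs 0 := hc
      exact absurd (hconjs h01) (by decide)
    · rw [sq] at hc
      have h02 : conjs 2 = conjs 0 := (hgs 2).symm.trans hc
      exact absurd (hconjs h02) (by decide)
  have hnG : n ∣ Nat.card G :=
    (Subgroup.card_quotient_dvd_card N').trans (Subgroup.card_subgroup_dvd_card L)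
  have h16 : ¬ 16 ∣ Nat.card G := by
    intro h
    have h1 := (P : Subgroup G).card_mul_index
    rw [S.d.card] at h1
    obtain ⟨k, hk⟩ := h
    exact P.not_dvd_index ⟨k, by omega⟩
  have h72 : 72 ≤ n := by
    obtain ⟨m, hm⟩ : 24 ∣ n := Nat.Coprime.mul_dvd_of_dvd_of_dvd (by norm_num : Nat.Coprime 8 3) h8 h3
    rcases (show m = 2 ∨ 3 ≤ m by omega) with rfl | h
    · exact absurd ((show 16 ∣ n by omega).trans hnG) h16
    · omega
  have hLc : Nat.card L = n * Nat.card N := by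
    rw [Subgroup.card_eq_card_quotient_mul_card_subgroup N', hN',
      Nat.card_congr (Subgroup.subgroupOfEquivOfLe hNL).toEquiv]
  have hN4 : Nat.card N = α * α * α ^ 2 := by rw [hn, ← hαγ, hβα]
  have hbig2 : 72 * (α * α * α ^ 2) ≤ Nat.card L := by
    rw [hLc, hN4]; exact Nat.mul_le_mul_right _ h72
  have hα81 : 81 ≤ α * α * α ^ 2 := by
    calc 81 = 3 * 3 * 3 ^ 2 := by norm_num
      _ ≤ _ := Nat.mul_le_mul (Nat.mul_le_mul hA hA) (Nat.pow_le_pow_left hA 2)
  have hLG := L.card_mul_index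
  have hi6 : L.index ≤ 6 := by
    by_contra hlt
    have h7 : Nat.card L * 7 ≤ Nat.card G := hLG ▸ Nat.mul_le_mul_left _ (by omega)
    have e : 1400 * (α * β) ^ 2 = 1400 * (α * α * α ^ 2) := by rw [hβα]; ring
    omega
  rcases eq_or_ne L ⊤ with e | e
  · rw [hL, Subgroup.normalizer_eq_top_iff] at e
    rcases e.eq_bot_or_eq_top with e | e
    · rw [e, Subgroup.card_bot] at hN4; omega
    · rw [e, Subgroup.card_top] at hNodd
      exact Nat.not_even_iff_odd.2 hNodd (even_iff_two_dvd.2 ((dvd_mul_left 2 4).trans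
        (S.d.card ▸ Subgroup.card_subgroup_dvd_card (P : Subgroup G))))
  · have h720 := card_le_of_index_le_six L e hi6
    have : Nat.card L ≤ Nat.card G := Nat.le_of_dvd Nat.card_pos (Subgroup.card_subgroup_dvd_card _)
    omega

theorem main [IsSimpleGroup G] (hG : ¬ IsCyclic G) (w : G)
    (hw : Nat.card (Subgroup.centralizer ({w} : Set G)) ≤ 4) : Target G := by
  rcases reduce hG w hw with h | ⟨P, τ, d, hone, hw4⟩
  · exact h
  have S₀ : Setup P w τ := ⟨d, hone, hw4⟩
  -- the smaller fixed group first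
  have key : ∀ t : G, Setup P w t → Nat.card (fix w (w * t)) ≤ Nat.card (fix w t) → Target G := by
    intro t S hle
    have hperf : commutator G = ⊤ := CfsgLib.SmallPSL.commutator_eq_top (not_comm hG)
    obtain ⟨r, hr⟩ := card_fix_odd S t
    obtain ⟨r', hr'⟩ := card_fix_odd S (w * t)
    by_cases hα : Nat.card (fix w t) = 1
    · exact core_trivial hG S (by rw [← card_core S, hα]; omega)
    by_cases hβ : Nat.card (fix w (w * t)) = 1
    · exact one_trivial hG S (by omega) hβ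
    exfalso
    obtain ⟨X, Y, Z, -, hX, hY, hZ, hX1, E1, -⟩ := equations S hperf
    have hb : 3 * Nat.card G ≤ 1400 * (Nat.card (fix w (w * t)) * Nat.card (fix w t)) ^ 2 := by
      have h := Arith.order_bound (Nat.cast_nonneg _) hX hX1 hY hZ E1
      rw [mul_comm (Nat.card (fix w (w * t)))]
      exact_mod_cast h
    have S' := swap S
    have e := fix_swap_swap S
    by_cases hfar : 3 * Nat.card (fix w (w * t)) ≤ Nat.card (fix w t)
    · exact both_far hG S' (by omega) (by rw [e]; exact hfar) (by rw [e]; exact hb)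
    · exact both_near hG S' (by omega) (by rw [e]; exact hle) (by rw [e]; omega) (by rw [e]; exact hb)
  rcases le_total (Nat.card (fix w (w * τ))) (Nat.card (fix w τ)) with h | h
  · exact key τ S₀ h
  · exact key (w * τ) (swap S₀) (by rw [fix_swap_swap S₀]; exact h)

end CfsgLib.SmallCent
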