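import Mathlib.Tactic.IntervalCases
import Mathlib.Tactic.Linarith
import Mathlib.Tactic.Ring
import Mathlib.Tactic.LinearCombination
import Mathlib.Data.Int.ModEq
import Mathlib.Algebra.Order.Ring.Int
import Mathlib.Algebra.Order.Ring.Abs
import Mathlib.Tactic.Positivity

/-!
# The arithmetic of the two equations
-/

set_option autoImplicit false

namespace CfsgLib.SmallCent.Arith

theorem two_plus {a b c : ℤ} (ha : 1 ≤ a) (hb : 1 ≤ b) (h : 1 + a + b - c = 0) :
    3 * ((a + 1) * (b + 1) * (c - 1)) ≤ 8 * (a * b * c) := by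
  obtain rfl : c = 1 + a + b := by omega
  nlinarith [mul_nonneg (sub_nonneg.2 ha) (sub_nonneg.2 hb),
    mul_nonneg (mul_nonneg (by omega : (0 : ℤ) ≤ a) (by omega : (0 : ℤ) ≤ b)) (by omega : (0 : ℤ) ≤ a + b - 2),
    mul_nonneg (sq_nonneg (a - b)) (by omega : (0 : ℤ) ≤ a + b)]

theorem one_plus {a b c : ℤ} (ha : 1 ≤ a) (hb : 1 ≤ b) (hc : 1 ≤ c) :
    3 * ((a + 1) * (b - 1) * (c - 1)) ≤ 8 * (a * b * c) := by
  have h1 : 0 ≤ (b - 1) * (c - 1) := mul_nonneg (by omega) (by omega)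
  have h2 : (b - 1) * (c - 1) ≤ b * c := mul_le_mul (by omega) (by omega) (by omega) (by omega)
  have h3 : (a + 1) * ((b - 1) * (c - 1)) ≤ (2 * a) * (b * c) :=
    mul_le_mul (by omega) h2 h1 (by omega)
  nlinarith [h3, mul_nonneg (mul_nonneg (by omega : (0 : ℤ) ≤ a) (by omega : (0 : ℤ) ≤ b))
    (by omega : (0 : ℤ) ≤ c)]

/-- The Klein order formula gives at least three eighths. -/
theorem three_eighths {a b c ε δ η : ℤ} (ha : 1 ≤ a) (hb : 1 ≤ b) (hc : 1 ≤ c)
    (he : ε = 1 ∨ ε = -1) (hd : δ = 1 ∨ δ = -1) (hh : η = 1 ∨ η = -1)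
    (h : 1 + ε * a + δ * b + η * c = 0) :
    3 * ((a + ε) * (b + δ) * (c + η)) ≤ 8 * (a * b * c) ∧ 0 ≤ (a + ε) * (b + δ) * (c + η) := by
  refine ⟨?_, mul_nonneg (mul_nonneg (by omega) (by omega)) (by omega)⟩
  rcases he with rfl | rfl <;> rcases hd with rfl | rfl <;> rcases hh with rfl | rfl
  · omega
  · have := two_plus ha hb (c := c) (by omega); linarith
  · have := two_plus ha hc (c := b) (by omega); linarith
  · have := one_plus ha hb hc; linarith
  · have := two_plus hb hc (c := a) (by omega); linarith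
  · have := one_plus hb ha hc; linarith
  · have := one_plus hc ha hb; linarith
  · omega

theorem no_nine_eighths_aux {a b : ℤ} (ha : 2 ≤ a) (hab : a ≤ b) :
    9 * ((a + b) * (a - 1) * (b - 1)) ≠ 8 * ((a + b - 1) * a * b) := by
  intro h
  have hb : 0 < b := by omega
  rcases (show a ≤ 9 ∨ 18 ≤ a ∨ (10 ≤ a ∧ a ≤ 17) by omega) with h9 | h18 | ⟨h10, h17⟩
  · interval_cases a <;> nlinarith [h, mul_pos hb hb]
  · nlinarith [mul_nonneg (mul_nonneg (by omega : (0 : ℤ) ≤ a - 18) (by omega : (0 : ℤ) ≤ b)) (by omega : (0 : ℤ) ≤ b),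
      mul_nonneg (mul_nonneg (by omega : (0 : ℤ) ≤ a) (by omega : (0 : ℤ) ≤ a - 18)) (by omega : (0 : ℤ) ≤ b - a),
      mul_nonneg (by omega : (0 : ℤ) ≤ b - a) (by omega : (0 : ℤ) ≤ b),
      mul_nonneg (by omega : (0 : ℤ) ≤ a - 18) (by omega : (0 : ℤ) ≤ b - a)]
  · have hb30 : b < 60 := by
      by_contra hb'
      interval_cases a <;> nlinarith [h, mul_nonneg (by omega : (0 : ℤ) ≤ b - 60) (by omega : (0 : ℤ) ≤ b)]
    interval_cases a <;> interval_cases b <;> omega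

theorem no_nine_eighths {a b c ε δ η : ℤ} (ha : 1 ≤ a) (hb : 1 ≤ b) (hc : 1 ≤ c)
    (he : ε = 1 ∨ ε = -1) (hd : δ = 1 ∨ δ = -1) (hh : η = 1 ∨ η = -1)
    (h : 1 + ε * a + δ * b + η * c = 0)
    (h' : 9 * ((a + ε) * (b + δ) * (c + η)) = 8 * (a * b * c)) : False := by
  have two : ∀ a b c : ℤ, 1 ≤ a → 1 ≤ b → 1 + a + b - c = 0 →
      9 * ((a + 1) * (b + 1) * (c - 1)) = 8 * (a * b * c) → False := by
    intro a b c ha hb hrel h'
    obtain rfl : c = 1 + a + b := by omega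
    nlinarith [mul_pos (mul_pos (show (0 : ℤ) < a by omega) (show (0 : ℤ) < b by omega))
      (show (0 : ℤ) < a + b by omega)]
  have one : ∀ a b c : ℤ, 1 ≤ a → 1 ≤ b → 1 ≤ c → 1 + a - b - c = 0 →
      9 * ((a + 1) * (b - 1) * (c - 1)) = 8 * (a * b * c) → False := by
    intro a b c ha hb hc hrel h'
    have hpos : 0 < a * b * c := mul_pos (mul_pos (by omega) (by omega)) (by omega)
    have hb2 : 2 ≤ b := by
      by_contra hlt
      obtain rfl : b = 1 := by omega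
      simp only [sub_self, mul_zero, zero_mul] at h'
      omega
    have hc2 : 2 ≤ c := by
      by_contra hlt
      obtain rfl : c = 1 := by omega
      simp only [sub_self, mul_zero] at h'
      omega
    obtain rfl : a = b + c - 1 := by omega
    rcases le_total b c with hbc | hbc
    · exact no_nine_eighths_aux hb2 hbc (by linear_combination h')
    · exact no_nine_eighths_aux hc2 hbc (by linear_combination h')
  rcases he with rfl | rfl <;> rcases hd with rfl | rfl <;> rcases hh with rfl | rfl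
  · omega
  · exact two a b c ha hb (by omega) (by linear_combination h')
  · exact two a c b ha hc (by omega) (by linear_combination h')
  · exact one a b c ha hb hc (by omega) (by linear_combination h')
  · exact two b c a hb hc (by omega) (by linear_combination h')
  · exact one b a c hb ha hc (by omega) (by linear_combination h')
  · exact one c a b hc ha hb (by omega) (by linear_combination h')
  · omega

theorem abs_bound {X : ℤ} (h : X % 8 = 1) (h1 : X ≠ 1) : 6 * |X| ≤ 7 * |1 + X| := by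
  rcases (show X ≤ -7 ∨ 9 ≤ X by omega) with h' | h'
  · rw [abs_of_neg (by omega : X < 0), abs_of_neg (by omega : 1 + X < 0)]; omega
  · rw [abs_of_pos (by omega : 0 < X), abs_of_pos (by omega : 0 < 1 + X)]; omega

theorem abs_bound' {Y : ℤ} (h : Y % 8 = 3) : 4 * |Y| ≤ 5 * |1 + Y| := by
  rcases (show Y ≤ -5 ∨ 3 ≤ Y by omega) with h' | h'
  · rw [abs_of_neg (by omega : Y < 0), abs_of_neg (by omega : 1 + Y < 0)]; omega
  · rw [abs_of_pos (by omega : 0 < Y), abs_of_pos (by omega : 0 < 1 + Y)]; omega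

theorem order_bound {n o X Y Z : ℤ} (hn : 0 ≤ n) (hX : X % 8 = 1) (hX1 : X ≠ 1) (hY : Y % 8 = 3)
    (hZ : Z % 8 = 3) (h : n * (1 + X) * (1 + Y) * (1 + Z) = 256 * o ^ 2 * (X * Y * Z)) :
    3 * n ≤ 1400 * o ^ 2 := by
  have hab := congrArg abs h
  simp only [abs_mul, abs_of_nonneg hn, abs_of_nonneg (sq_nonneg o)] at hab
  rw [abs_of_pos (show (0 : ℤ) < 256 by norm_num)] at hab
  have h1 : (6 * |X|) * ((4 * |Y|) * (4 * |Z|)) ≤ (7 * |1 + X|) * ((5 * |1 + Y|) * (5 * |1 + Z|)) :=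
    mul_le_mul (abs_bound hX hX1) (mul_le_mul (abs_bound' hY) (abs_bound' hZ) (by positivity)
      (by positivity)) (by positivity) (by positivity)
  have hpos : 0 < |1 + X| * |1 + Y| * |1 + Z| :=
    mul_pos (mul_pos (abs_pos.2 (by omega)) (abs_pos.2 (by omega))) (abs_pos.2 (by omega))
  have h2 : 96 * (n * (|1 + X| * |1 + Y| * |1 + Z|)) ≤
      256 * 175 * o ^ 2 * (|1 + X| * |1 + Y| * |1 + Z|) := by
    have e : n * (|1 + X| * |1 + Y| * |1 + Z|) = 256 * o ^ 2 * (|X| * |Y| * |Z|) := by linarith [hab]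
    rw [e]
    nlinarith [h1, mul_nonneg (sq_nonneg o) (sub_nonneg.2 h1)]
  have h3 : 96 * n ≤ 256 * 175 * o ^ 2 := le_of_mul_le_mul_right (by linarith [h2]) hpos
  omega

/-- The table of the one trivial case: `α`, `X = 8 k + 1`. -/
def check (α X : ℤ) : Bool :=
  let D := 4 * α * (X - 1) ^ 2 - (1 + α) ^ 2 * (1 + X) ^ 2
  let N := (1 + α) ^ 2 * (1 + X) ^ 2 * (-X)
  let d := (1 + X) ^ 2 - 4 * (N / D)
  (D == 0 && N != 0) || N % D != 0 || Int.sqrt d * Int.sqrt d != d ||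
    (α == 3 && X == -15) || (α == 5 && X == -7)

theorem check_all : ∀ α ∈ [(3 : ℤ), 5, 7, 9], ∀ X ∈ [(-55 : ℤ), -47, -39, -31, -23, -15, -7, 9, 17, 25],
    check α X = true := by decide +kernel

theorem one_trivial {α X Y Z : ℤ} (hodd : α % 2 = 1) (hα : 3 ≤ α) (hrel : 1 + X + Y + Z = 0)
    (hX : X % 8 = 1) (hX1 : X ≠ 1) (hY : Y % 8 = 3) (hZ : Z % 8 = 3)
    (h : 4 * α * (X - 1) ^ 2 * (Y * Z) = (1 + α) ^ 2 * (1 + X) ^ 2 * ((1 + Y) * (1 + Z))) :
    (α = 3 ∧ X = -15) ∨ (α = 5 ∧ X = -7) := by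
  have hY0 : Y ≤ -5 ∨ 3 ≤ Y := by omega
  have hZ0 : Z ≤ -5 ∨ 3 ≤ Z := by omega
  have hX0 : X ≤ -7 ∨ 9 ≤ X := by omega
  have hp : 0 < |1 + Y| * |1 + Z| := mul_pos (abs_pos.2 (by omega)) (abs_pos.2 (by omega))
  have hab := congrArg abs h
  simp only [abs_mul, abs_of_nonneg (sq_nonneg (X - 1)), abs_of_nonneg (sq_nonneg (1 + X)),
    abs_of_nonneg (sq_nonneg (1 + α))] at hab
  rw [abs_of_pos (show (0 : ℤ) < 4 by norm_num), abs_of_pos (show (0 : ℤ) < α by omega)] at hab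
  -- a bound for `α`
  have hX2 : 9 * (X - 1) ^ 2 ≤ 16 * (1 + X) ^ 2 := by
    rcases hX0 with h' | h' <;> nlinarith
  have hα9 : α ≤ 9 := by
    have h1 : (4 * |Y|) * (4 * |Z|) ≤ (5 * |1 + Y|) * (5 * |1 + Z|) :=
      mul_le_mul (abs_bound' hY) (abs_bound' hZ) (by positivity) (by positivity)
    have h2 : 9 * (X - 1) ^ 2 * ((4 * |Y|) * (4 * |Z|)) ≤
        16 * (1 + X) ^ 2 * ((5 * |1 + Y|) * (5 * |1 + Z|)) :=
      mul_le_mul hX2 h1 (by positivity) (by positivity)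
    have hpx : 0 < (1 + X) ^ 2 * (|1 + Y| * |1 + Z|) :=
      mul_pos (by have : (1 + X) ≠ 0 := by omega
                  positivity) hp
    have h3 : 9 * (1 + α) ^ 2 * ((1 + X) ^ 2 * (|1 + Y| * |1 + Z|)) ≤
        100 * α * ((1 + X) ^ 2 * (|1 + Y| * |1 + Z|)) := by
      nlinarith [mul_nonneg (show (0 : ℤ) ≤ α by omega) (sub_nonneg.2 h2), hab]
    have h4 := le_of_mul_le_mul_right h3 hpx
    nlinarith
  -- a bound for `X`
  have h163 : 16 * α ≤ 3 * (1 + α) ^ 2 := by nlinarith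
  have hkey : 4 * ((1 + X) ^ 2 * (|1 + Y| * |1 + Z|)) ≤ 3 * ((X - 1) ^ 2 * (|Y| * |Z|)) := by
    have h1 : 16 * α * ((1 + X) ^ 2 * (|1 + Y| * |1 + Z|)) ≤
        3 * (1 + α) ^ 2 * ((1 + X) ^ 2 * (|1 + Y| * |1 + Z|)) :=
      mul_le_mul_of_nonneg_right h163 (by positivity)
    nlinarith [h1, hab]
  have hXr : -55 ≤ X ∧ X ≤ 25 := by
    rcases hX0 with h' | h'
    · refine ⟨?_, by omega⟩
      by_contra hlt
      rcases hY0 with hy | hy <;> rcases hZ0 with hz | hz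
      · omega
      · rw [abs_of_neg (by omega : Y < 0), abs_of_neg (by omega : 1 + Y < 0),
          abs_of_pos (by omega : 0 < Z), abs_of_pos (by omega : 0 < 1 + Z)] at hkey
        have h1 : 4 * (-Y) * Z ≤ 5 * (-(1 + Y)) * (1 + Z) := by nlinarith
        have h2 := mul_le_mul_of_nonneg_left h1 (sq_nonneg (X - 1))
        have h5 : 16 * (1 + X) ^ 2 * (-(1 + Y) * (1 + Z)) ≤ 15 * (X - 1) ^ 2 * (-(1 + Y) * (1 + Z)) := by
          linarith [h2, hkey]
        have h6 := le_of_mul_le_mul_right h5 (mul_pos (by omega) (by omega))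
        nlinarith [mul_nonneg (show (0 : ℤ) ≤ -X by omega) (show (0 : ℤ) ≤ -X - 63 by omega)]
      · rw [abs_of_pos (by omega : 0 < Y), abs_of_pos (by omega : 0 < 1 + Y),
          abs_of_neg (by omega : Z < 0), abs_of_neg (by omega : 1 + Z < 0)] at hkey
        have h1 : 4 * Y * (-Z) ≤ 5 * (1 + Y) * (-(1 + Z)) := by nlinarith
        have h2 := mul_le_mul_of_nonneg_left h1 (sq_nonneg (X - 1))
        have h5 : 16 * (1 + X) ^ 2 * ((1 + Y) * -(1 + Z)) ≤ 15 * (X - 1) ^ 2 * ((1 + Y) * -(1 + Z)) := by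
          linarith [h2, hkey]
        have h6 := le_of_mul_le_mul_right h5 (mul_pos (by omega) (by omega))
        nlinarith [mul_nonneg (show (0 : ℤ) ≤ -X by omega) (show (0 : ℤ) ≤ -X - 63 by omega)]
      · rw [abs_of_pos (by omega : 0 < Y), abs_of_pos (by omega : 0 < 1 + Y),
          abs_of_pos (by omega : 0 < Z), abs_of_pos (by omega : 0 < 1 + Z)] at hkey
        have h1 : Y * Z ≤ (1 + Y) * (1 + Z) := by nlinarith
        have h2 := mul_le_mul_of_nonneg_left h1 (sq_nonneg (X - 1))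
        have h5 : 4 * (1 + X) ^ 2 * ((1 + Y) * (1 + Z)) ≤ 3 * (X - 1) ^ 2 * ((1 + Y) * (1 + Z)) := by
          linarith [h2, hkey]
        have h6 := le_of_mul_le_mul_right h5 (mul_pos (by omega) (by omega))
        nlinarith [mul_nonneg (show (0 : ℤ) ≤ -X by omega) (show (0 : ℤ) ≤ -X - 63 by omega)]
    · refine ⟨by omega, ?_⟩
      by_contra hgt
      have hXsq : (X - 1) ^ 2 * (|Y| * |Z|) ≤ (1 + X) ^ 2 * (|Y| * |Z|) :=
        mul_le_mul_of_nonneg_right (by nlinarith) (by positivity)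
      have h4 : 4 * (|1 + Y| * |1 + Z|) ≤ 3 * (|Y| * |Z|) :=
        le_of_mul_le_mul_left (a := (1 + X) ^ 2) (by nlinarith) (by
          have : (1 + X) ≠ 0 := by omega
          positivity)
      rcases hY0 with hy | hy <;> rcases hZ0 with hz | hz
      · rw [abs_of_neg (by omega : Y < 0), abs_of_neg (by omega : 1 + Y < 0),
          abs_of_neg (by omega : Z < 0), abs_of_neg (by omega : 1 + Z < 0)] at h4
        rcases (show Y ≤ -21 ∨ Z ≤ -21 ∨ (-13 ≤ Y ∧ -13 ≤ Z) by omega) with hy' | hz' | ⟨hy', hz'⟩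
        · nlinarith [mul_nonneg (by omega : (0 : ℤ) ≤ -Y - 21) (by omega : (0 : ℤ) ≤ -Z - 5)]
        · nlinarith [mul_nonneg (by omega : (0 : ℤ) ≤ -Z - 21) (by omega : (0 : ℤ) ≤ -Y - 5)]
        · omega
      · rw [abs_of_neg (by omega : Y < 0), abs_of_neg (by omega : 1 + Y < 0),
          abs_of_pos (by omega : 0 < Z), abs_of_pos (by omega : 0 < 1 + Z)] at h4
        nlinarith [mul_nonneg (by omega : (0 : ℤ) ≤ -Y - 5) (by omega : (0 : ℤ) ≤ Z - 3)]
      · rw [abs_of_pos (by omega : 0 < Y), abs_of_pos (by omega : 0 < 1 + Y),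
          abs_of_neg (by omega : Z < 0), abs_of_neg (by omega : 1 + Z < 0)] at h4
        nlinarith [mul_nonneg (by omega : (0 : ℤ) ≤ -Z - 5) (by omega : (0 : ℤ) ≤ Y - 3)]
      · omega
  obtain ⟨hlo, hhi⟩ := hXr
  have hmem : α ∈ [(3 : ℤ), 5, 7, 9] ∧ X ∈ [(-55 : ℤ), -47, -39, -31, -23, -15, -7, 9, 17, 25] := by
    simp only [List.mem_cons, List.not_mem_nil, or_false]
    omega
  have hc := check_all α hmem.1 X hmem.2
  have hlin : (4 * α * (X - 1) ^ 2 - (1 + α) ^ 2 * (1 + X) ^ 2) * (Y * Z) =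
      (1 + α) ^ 2 * (1 + X) ^ 2 * (-X) := by
    linear_combination h + (1 + α) ^ 2 * (1 + X) ^ 2 * hrel
  simp only [check, Bool.or_eq_true, Bool.and_eq_true, beq_iff_eq, bne_iff_ne] at hc
  rcases hc with (((⟨hD, hN⟩ | hmod) | hsq) | h1) | h2
  · rw [hD, zero_mul] at hlin
    exact absurd hlin.symm hN
  · exact absurd (Int.emod_eq_zero_of_dvd ⟨Y * Z, hlin.symm⟩) hmod
  · have hD0 : (4 * α * (X - 1) ^ 2 - (1 + α) ^ 2 * (1 + X) ^ 2) ≠ 0 := by
      intro hD
      rw [hD, zero_mul] at hlin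
      have h1 : (1 + α) ^ 2 * (1 + X) ^ 2 * (-X) ≠ 0 :=
        mul_ne_zero (mul_ne_zero (pow_ne_zero 2 (by omega)) (pow_ne_zero 2 (by omega))) (by omega)
      exact h1 hlin.symm
    rw [← hlin, Int.mul_ediv_cancel_left _ hD0] at hsq
    refine absurd ((Int.exists_mul_self _).1 ⟨Y - Z, ?_⟩) hsq
    rw [show 1 + X = -(Y + Z) by omega]
    ring
  · exact Or.inl h1
  · exact Or.inr h2

end CfsgLib.SmallCent.Arith
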