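import Cfsg.Agent.Lib.Fusion.ThompsonTransfer

/-!
# The transfer argument for elements of order at most four
-/

set_option autoImplicit false

namespace CfsgLib.SmallCent

open Subgroup MulAction

variable {G : Type*} [Group G]

/-- If `u ^ 4 = 1`, no conjugate of `u` lies in `Q` and every conjugate of `u ^ 2` in `P` lies in
`Q`, then `G` has a subgroup of index two. -/
theorem exists_index_two [Finite G] (P Q : Subgroup G) (hPi : Odd P.index)
    (hQi : Q.relIndex P = 2) (u : G) (hu : u ^ 4 = 1) (hno : ∀ g : G, g * u * g⁻¹ ∉ Q)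
    (hsq : ∀ g : G, g * u ^ 2 * g⁻¹ ∈ P → g * u ^ 2 * g⁻¹ ∈ Q) :
    ∃ M : Subgroup G, M.Normal ∧ M.index = 2 := by
  classical
  let φ : P →* ℤˣ := CfsgLib.ThompsonTransfer.indexTwoSign (Q.subgroupOf P) hQi
  let f : G →* ℤˣ := MonoidHom.transfer φ
  have hfu : f u = -1 := by
    let := P.fintypeQuotientOfFiniteIndex
    show MonoidHom.transfer φ u = -1
    rw [MonoidHom.transfer_eq_prod_quotient_orbitRel_zpowers_quot]
    have hterm : ∀ q : Quotient (orbitRel (zpowers u) (G ⧸ P)),
        φ ⟨q.out.out⁻¹ * u ^ Function.minimalPeriod (u • ·) q.out * q.out.out,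
            QuotientGroup.out_conj_pow_minimalPeriod_mem P u q.out⟩ =
          (-1 : ℤˣ) ^ Function.minimalPeriod (u • ·) q.out := by
      intro q
      have hper : Function.IsPeriodicPt (u • ·) (2 ^ 2) q.out := by
        show (u • ·)^[2 ^ 2] q.out = q.out
        rw [smul_iterate]
        simp [hu]
      have hmem := QuotientGroup.out_conj_pow_minimalPeriod_mem P u q.out
      obtain ⟨k, hk, h⟩ := (Nat.dvd_prime_pow Nat.prime_two).1 hper.minimalPeriod_dvd
      interval_cases k
      · refine (CfsgLib.ThompsonTransfer.indexTwoSign_eq_neg_one hQi ?_).trans (by rw [h, pow_zero, pow_one])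
        rw [Subgroup.mem_subgroupOf]
        show q.out.out⁻¹ * u ^ Function.minimalPeriod (u • ·) q.out * q.out.out ∉ Q
        rw [h, pow_zero, pow_one]
        have := hno (q.out.out)⁻¹
        rwa [inv_inv] at this
      · have hQ : q.out.out⁻¹ * u ^ Function.minimalPeriod (u • ·) q.out * q.out.out ∈ Q := by
          rw [h, pow_one] at hmem ⊢
          have := hsq (q.out.out)⁻¹
          rw [inv_inv] at this
          exact this hmem
        conv_rhs => rw [h, pow_one, neg_one_sq]
        show (if _ ∈ Q.subgroupOf P then (1 : ℤˣ) else -1) = 1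
        rw [if_pos]
        rw [Subgroup.mem_subgroupOf]
        exact hQ
      · have h1 : (⟨q.out.out⁻¹ * u ^ Function.minimalPeriod (u • ·) q.out * q.out.out,
            QuotientGroup.out_conj_pow_minimalPeriod_mem P u q.out⟩ : P) = 1 := by
          apply Subtype.ext
          show q.out.out⁻¹ * u ^ Function.minimalPeriod (u • ·) q.out * q.out.out = 1
          rw [h, show (2 : ℕ) ^ 2 = 4 by norm_num, hu, mul_one, inv_mul_cancel]
        exact ((congrArg φ h1).trans (map_one φ)).trans (by rw [h]; rfl)
    rw [Finset.prod_congr rfl (fun q _ => hterm q), Finset.prod_pow_eq_pow_sum,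
      ← index_eq_sum_minimalPeriod P u]
    exact hPi.neg_one_pow
  refine ⟨f.ker, inferInstance, ?_⟩
  have hsurj : Function.Surjective f := by
    intro z
    rcases Int.units_eq_one_or z with rfl | rfl
    · exact ⟨1, map_one f⟩
    · exact ⟨u, hfu⟩
  rw [Subgroup.index, Nat.card_congr (QuotientGroup.quotientKerEquivOfSurjective f hsurj).toEquiv,
    Nat.card_eq_fintype_card, Fintype.card_units_int]

end CfsgLib.SmallCent
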