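import Cfsg.Agent.Lib.SmallCent.SylowShape
import Cfsg.Agent.Lib.SmallCent.Transfer
import Cfsg.Agent.Lib.Invol.KleinOrder
import Cfsg.Agent.Lib.Invol.GlaubermanZStar
import Cfsg.Agent.S3331
import Cfsg.Agent.S1230
import Cfsg.Agent.S0252
import Cfsg.Agent.S0496

/-!
# Simple groups with an element whose centraliser has order at most four: the Sylow 2-subgroup

Apart from `A₅` and `PSL(2,7)` only the case of a dihedral Sylow 2-subgroup of order eight with
one class of involutions and a self-centralising cyclic subgroup of order four remains.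
-/

set_option autoImplicit false

namespace CfsgLib.SmallCent

open CfsgLib.Invol

universe u

/-- The four groups of the conclusion. -/
def Target (G : Type u) [Group G] : Prop :=
  Nonempty (G ≃* ↥(alternatingGroup (Fin 5))) ∨ Nonempty (G ≃* ↥(alternatingGroup (Fin 6))) ∨
    Nonempty (G ≃* ↥(alternatingGroup (Fin 7))) ∨
    (∃ (F : Type) (_ : Field F) (_ : Fintype F), Fintype.card F = 7 ∧
      Nonempty (G ≃* Matrix.ProjectiveSpecialLinearGroup (Fin 2) F))

variable {G : Type u} [Group G]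

theorem card_centralizer_conj (g x : G) :
    Nat.card (Subgroup.centralizer ({g * x * g⁻¹} : Set G)) =
      Nat.card (Subgroup.centralizer ({x} : Set G)) := by
  symm
  refine Nat.card_congr (Equiv.subtypeEquiv (MulAut.conj g).toEquiv fun y => ?_)
  simp only [Subgroup.mem_centralizer_singleton_iff, MulEquiv.toEquiv_eq_coe, MulEquiv.coe_toEquiv,
    MulAut.conj_apply]
  exact (Commute.conj_iff g).symm

variable [Finite G] [IsSimpleGroup G]

theorem not_comm (hG : ¬ IsCyclic G) : ¬ IsMulCommutative G := fun h => hG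
  (let _ : CommGroup G := { (inferInstance : Group G) with mul_comm := h.is_comm.comm }
   inferInstance)

theorem sixty_le (hG : ¬ IsCyclic G) : 60 ≤ Nat.card G := by
  by_contra h
  rcases Cfsg.Agent.S0496.result (not_comm hG) (by omega) with e | e | e | e | e | e <;> omega

theorem no_index_two (hG : ¬ IsCyclic G) {M : Subgroup G} (hM : M.Normal) : M.index ≠ 2 := by
  intro h
  rcases hM.eq_bot_or_eq_top with rfl | rfl
  · rw [Subgroup.index_bot] at h
    have := sixty_le hG
    omega
  · rw [Subgroup.index_top] at h; omega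

theorem not_cyclic_sylow (hG : ¬ IsCyclic G) (P : Sylow 2 G) (h2 : 2 ∣ Nat.card G) :
    ¬ IsCyclic (P : Subgroup G) := by
  intro hc
  have : Fact (Nat.Prime 2) := ⟨Nat.prime_two⟩
  obtain ⟨l, hl⟩ := CfsgLib.Case.index_oddCore_of_cyclic (P : Subgroup G) P.2
    (Nat.odd_iff.2 (by have := P.not_dvd_index; omega)) hc
  rcases (CfsgLib.Solvable.pPrimeCore_normal 2 G).eq_bot_or_eq_top with e | e
  · rw [e, Subgroup.index_bot] at hl
    have hp : IsPGroup 2 G := IsPGroup.of_card hl
    have : Nontrivial G := IsSimpleGroup.toNontrivial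
    have hnil := hp.isNilpotent
    exact not_comm hG ⟨⟨fun a b => IsSimpleGroup.comm_iff_isSolvable.2 inferInstance a b⟩⟩
  · have h := CfsgLib.Solvable.pPrimeCore_card_coprime 2 G
    rw [e, Subgroup.card_top] at h
    exact (Nat.prime_two.coprime_iff_not_dvd.1 h.symm) h2

theorem of_card_three (hG : ¬ IsCyclic G) (w : G)
    (hw : Nat.card (Subgroup.centralizer ({w} : Set G)) = 3) : Target G := by
  have : Fact (Nat.Prime 3) := ⟨Nat.prime_three⟩
  have hwC : w ∈ Subgroup.centralizer ({w} : Set G) := Subgroup.mem_centralizer_singleton_iff.2 rfl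
  have hw1 : w ≠ 1 := by
    rintro rfl
    have htop : Subgroup.centralizer ({1} : Set G) = ⊤ :=
      (Subgroup.eq_top_iff' _).2 fun g => Subgroup.mem_centralizer_singleton_iff.2 (by simp)
    rw [htop, Subgroup.card_top] at hw
    have := sixty_le hG
    omega
  have hord : orderOf w = 3 := by
    have h := Subgroup.orderOf_dvd_natCard _ hwC
    rw [hw] at h
    rcases (Nat.dvd_prime Nat.prime_three).1 h with e | e
    · exact absurd (orderOf_eq_one_iff.1 e) hw1
    · exact e
  have hX : Subgroup.zpowers w = Subgroup.centralizer ({w} : Set G) :=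
    Subgroup.eq_of_le_of_card_ge (Subgroup.zpowers_le.2 hwC) (by rw [Nat.card_zpowers, hord, hw])
  have hC : Subgroup.centralizer (Subgroup.zpowers w : Set G) = Subgroup.zpowers w := by
    rw [Subgroup.zpowers_eq_closure, Subgroup.centralizer_closure, ← Subgroup.zpowers_eq_closure, hX]
  rcases Cfsg.Agent.S3331.result (Subgroup.zpowers w) (by rw [Nat.card_zpowers, hord]) hC with
    ⟨N, hN, -, hco, hq⟩ | ⟨N, hN, -, hsq, hq⟩ | h
  · rcases hN.eq_bot_or_eq_top with e | e
    · subst e
      have h60 := sixty_le hG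
      have hc : Nat.card (G ⧸ (⊥ : Subgroup G)) = Nat.card G :=
        Nat.card_congr QuotientGroup.quotientBot.toEquiv
      rcases hq with h | ⟨⟨i⟩⟩
      · omega
      · rw [Nat.card_congr i.toEquiv, Nat.card_perm, Nat.card_fin] at hc
        norm_num [Nat.factorial] at hc
        omega
    · exfalso
      rw [e, Subgroup.card_top] at hco
      have := orderOf_dvd_natCard w
      rw [hord] at this
      exact Nat.prime_three.coprime_iff_not_dvd.1 hco.symm this
  · rcases hN.eq_bot_or_eq_top with e | e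
    · subst e
      exact Or.inl ⟨QuotientGroup.quotientBot.symm.trans hq.some⟩
    · exfalso
      have := orderOf_dvd_of_pow_eq_one (hsq w (e ▸ Subgroup.mem_top w))
      rw [hord] at this
      omega
  · have : Fact (Nat.Prime 7) := ⟨by norm_num⟩
    exact Or.inr (Or.inr (Or.inr ⟨ZMod 7, inferInstance, inferInstance, ZMod.card 7, h⟩))

theorem of_card_two (hG : ¬ IsCyclic G) (w : G)
    (hw : Nat.card (Subgroup.centralizer ({w} : Set G)) = 2) : False := by
  have : Fact (Nat.Prime 2) := ⟨Nat.prime_two⟩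
  set C := Subgroup.centralizer ({w} : Set G) with hC
  have hwC : w ∈ C := Subgroup.mem_centralizer_singleton_iff.2 rfl
  obtain ⟨P, hP⟩ := (IsPGroup.of_card (p := 2) (n := 1) (G := C) (by rw [hw, pow_one])).exists_le_sylow
  have h2 : 2 ∣ Nat.card G := hw ▸ Subgroup.card_subgroup_dvd_card C
  refine not_cyclic_sylow hG P h2 ?_
  have hPne : Nontrivial (P : Subgroup G) := by
    rw [← Finite.one_lt_card_iff_nontrivial]
    have := Subgroup.card_le_of_le hP
    omega
  have hcen : Nontrivial (Subgroup.center (P : Subgroup G)) := P.2.center_nontrivial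
  obtain ⟨⟨c, hc⟩, hc1⟩ := exists_ne (1 : Subgroup.center (P : Subgroup G))
  have hcC : (c : G) ∈ C := Subgroup.mem_centralizer_singleton_iff.2
    (congrArg Subtype.val (Subgroup.mem_center_iff.1 hc ⟨w, hP hwC⟩)).symm
  have hc1' : (c : G) ≠ 1 := fun e => hc1 (Subtype.ext (Subtype.ext e))
  have hw1 : w ≠ 1 := by
    rintro rfl
    have htop : C = ⊤ :=
      (Subgroup.eq_top_iff' _).2 fun g => Subgroup.mem_centralizer_singleton_iff.2 (by simp)
    rw [htop, Subgroup.card_top] at hw
    have := sixty_le hG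
    omega
  have hcw : (c : G) = w := by
    obtain ⟨a, b, hab, huniv⟩ := Nat.card_eq_two_iff.1 hw
    have h1 : ∀ x : C, x = a ∨ x = b := fun x => by
      have : x ∈ ({a, b} : Set C) := huniv ▸ Set.mem_univ x
      simpa using this
    rcases h1 1 with e | e <;> rcases h1 ⟨w, hwC⟩ with e' | e' <;> rcases h1 ⟨c, hcC⟩ with e'' | e''
    all_goals first
      | exact absurd (congrArg Subtype.val (e'.trans e.symm)) hw1
      | exact absurd (congrArg Subtype.val (e''.trans e.symm)) hc1'
      | exact congrArg Subtype.val (e''.trans e'.symm)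
  have hPC : (P : Subgroup G) ≤ C := fun x hx => Subgroup.mem_centralizer_singleton_iff.2 (by
    rw [← hcw]; exact congrArg Subtype.val (Subgroup.mem_center_iff.1 hc ⟨x, hx⟩))
  have e : (P : Subgroup G) = C := le_antisymm hPC hP
  rw [e]
  exact isCyclic_of_prime_card hw

/-- A Sylow 2-subgroup of order four. -/
theorem of_sylow_four (hG : ¬ IsCyclic G) (w : G)
    (hw : Nat.card (Subgroup.centralizer ({w} : Set G)) = 4) (P : Sylow 2 G)
    (hP : (P : Subgroup G) = Subgroup.centralizer ({w} : Set G)) : Target G := by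
  have : Fact (Nat.Prime 2) := ⟨Nat.prime_two⟩
  have hP4 : Nat.card (P : Subgroup G) = 4 := by rw [hP, hw]
  have h60 := sixty_le hG
  obtain ⟨g₀, hg₀⟩ : 4 ∣ Nat.card G := hP4 ▸ Subgroup.card_subgroup_dvd_card _
  have hg : Odd g₀ := by
    have h1 := (P : Subgroup G).card_mul_index
    rw [hP4, hg₀] at h1
    have := P.not_dvd_index
    rw [Nat.odd_iff]
    omega
  have hnc : ¬ ∃ N : Subgroup G, N.Normal ∧ Nat.card N = g₀ := by
    rintro ⟨N, hN, hc⟩
    rcases hN.eq_bot_or_eq_top with rfl | rfl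
    · rw [Subgroup.card_bot] at hc; omega
    · rw [Subgroup.card_top] at hc; omega
  have h2 : 2 ∣ Nat.card G := ⟨2 * g₀, by omega⟩
  have : Nontrivial (P : Subgroup G) := Finite.one_lt_card_iff_nontrivial.1 (by omega)
  obtain ⟨⟨J, hJ⟩, hJ1⟩ := exists_prime_orderOf_dvd_card' 2 (G := (P : Subgroup G)) (by omega)
  rw [Subgroup.orderOf_mk] at hJ1
  obtain ⟨hK, ⟨τ, -⟩, hone⟩ := KleinOrder.setting g₀ hg hg₀ hnc P hJ hJ1
  have hwP : w ∈ (P : Subgroup G) := by
    rw [hP]; exact Subgroup.mem_centralizer_singleton_iff.2 rfl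
  have hw2 : ∀ x : (P : Subgroup G), x * x = 1 := IsKleinFour.mul_self
  have hw1 : w ≠ 1 := by
    rintro rfl
    have htop : Subgroup.centralizer ({1} : Set G) = ⊤ :=
      (Subgroup.eq_top_iff' _).2 fun g => Subgroup.mem_centralizer_singleton_iff.2 (by simp)
    rw [htop, Subgroup.card_top] at hw
    omega
  have hwo : orderOf w = 2 := orderOf_eq_two hw1 (congrArg Subtype.val (hw2 ⟨w, hwP⟩))
  obtain ⟨F, iF, fF, hF, ⟨e⟩⟩ := Cfsg.Agent.S1230.result P
    (fun hc => not_cyclic_sylow hG P h2 hc)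
    (fun hN => by
      rcases hN.eq_bot_or_eq_top with e | e
      · rw [e, Subgroup.card_bot] at hP4; omega
      · rw [e, Subgroup.card_top] at hP4; omega)
    (fun t ht => by
      obtain ⟨g, hg⟩ := isConj_iff.1 ((hone w hwo).symm.trans (hone t ht))
      have key : ∀ c ∈ Subgroup.centralizer ({t} : Set G), g⁻¹ * c * g ∈ (P : Subgroup G) := by
        intro c hc
        rw [hP, Subgroup.mem_centralizer_singleton_iff]
        have h := Subgroup.mem_centralizer_singleton_iff.1 hc
        rw [← hg] at h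
        calc g⁻¹ * c * g * w = g⁻¹ * (c * (g * w * g⁻¹)) * g := by group
          _ = w * (g⁻¹ * c * g) := by rw [h]; group
      refine ⟨⟨⟨fun a b => Subtype.ext ?_⟩⟩, fun c hc => ?_⟩
      · have hcomm : (⟨_, key a a.2⟩ : (P : Subgroup G)) * ⟨_, key b b.2⟩ =
            ⟨_, key b b.2⟩ * ⟨_, key a a.2⟩ := by
          have h3 := hw2 ((⟨_, key a a.2⟩ : (P : Subgroup G)) * ⟨_, key b b.2⟩)
          rw [mul_eq_one_iff_eq_inv, mul_inv_rev, inv_eq_of_mul_eq_one_right (hw2 _),
            inv_eq_of_mul_eq_one_right (hw2 _)] at h3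
          exact h3
        have h := congrArg Subtype.val hcomm
        simp only [Subgroup.coe_mul] at h
        calc (a : G) * b = g * ((g⁻¹ * a * g) * (g⁻¹ * b * g)) * g⁻¹ := by group
          _ = _ := by rw [h]; simp [mul_assoc]
      · have h := congrArg Subtype.val (hw2 ⟨_, key c hc⟩)
        simp only [Subgroup.coe_mul, Subgroup.coe_one] at h
        calc c ^ 2 = g * ((g⁻¹ * c * g) * (g⁻¹ * c * g)) * g⁻¹ := by rw [sq]; group
          _ = 1 := by rw [h]; group)
  refine Or.inl ⟨e.trans (Cfsg.Agent.S0252.result (F := F) ?_).some⟩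
  rw [hF]
  exact hP4

theorem sd_no_four (hG : ¬ IsCyclic G) (P : Sylow 2 G) {a t z w : G} {n : ℕ} (hn : 4 ≤ n)
    (ha : a ∈ (P : Subgroup G)) (ht : t ∈ (P : Subgroup G)) (hao : orderOf a = 2 ^ (n - 1))
    (hta : t ∉ Subgroup.zpowers a) (hz : z = a ^ 2 ^ (n - 2)) (hzo : orderOf z = 2)
    (hcases : ∀ s ∈ (P : Subgroup G), ∃ i : ℤ, s = a ^ i ∨ s = a ^ i * t)
    (htt : t * t = 1) (hconj : t * a * t⁻¹ = a⁻¹ * z) {i : ℤ} (hwi : w = a ^ i * t)
    (hwo : orderOf w = 4) (hw : Nat.card (Subgroup.centralizer ({w} : Set G)) = 4) : False := by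
  have : Fact (Nat.Prime 2) := ⟨Nat.prime_two⟩
  set m := 2 ^ (n - 2) with hm
  have hm2 : 2 ∣ m := dvd_pow_self 2 (by omega)
  have hz' : z = a ^ (m : ℤ) := by rw [zpow_natCast]; exact hz
  have hac : Commute a z := by rw [hz']; exact (Commute.refl a).zpow_right _
  have hta' : ∀ k : ℤ, t * a ^ k = a ^ ((m : ℤ) * k - k) * t := fun k => by
    have h := conj_zpow_inv_mul hac hconj k
    rw [hz', ← zpow_mul, ← zpow_neg, ← zpow_add, mul_inv_eq_iff_eq_mul] at h
    rw [h]; congr 2; ring
  have hsq : ∀ k : ℤ, (a ^ k * t) * (a ^ k * t) = z ^ k := fun k => by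
    rw [mul_assoc, ← mul_assoc t, hta', mul_assoc (a ^ _) t, htt, mul_one, ← zpow_add, hz', ← zpow_mul]
    congr 1; ring
  have hord : ((orderOf a : ℕ) : ℤ) = 2 * (m : ℤ) := by
    rw [hao, hm, show n - 1 = n - 2 + 1 by omega, pow_succ]; push_cast; ring
  have heven : ∀ {k j : ℤ}, a ^ k = a ^ j → (2 : ℤ) ∣ k - j := fun {k j} e => by
    refine dvd_trans ⟨(m : ℤ), hord⟩ ?_
    rw [orderOf_dvd_iff_zpow_eq_one, zpow_sub, e, mul_inv_cancel]
  have hne : ∀ k j : ℤ, a ^ k * t ≠ a ^ j := fun k j e => hta (by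
    rw [← eq_inv_mul_iff_mul_eq, ← zpow_neg, ← zpow_add] at e
    exact ⟨_, e.symm⟩)
  let Q : Subgroup G :=
    { carrier := {s | ∃ j : ℤ, s = a ^ (2 * j) ∨ s = a ^ (2 * j) * t}
      one_mem' := ⟨0, Or.inl (by simp)⟩
      mul_mem' := by
        rintro x y ⟨j, rfl | rfl⟩ ⟨k, rfl | rfl⟩
        · exact ⟨j + k, Or.inl (by rw [← zpow_add]; ring_nf)⟩
        · exact ⟨j + k, Or.inr (by rw [← mul_assoc, ← zpow_add]; ring_nf)⟩
        · exact ⟨j + ((m : ℤ) * k - k), Or.inr (by
            rw [mul_assoc, hta', ← mul_assoc, ← zpow_add]; ring_nf)⟩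
        · exact ⟨j + ((m : ℤ) * k - k), Or.inl (by
            rw [mul_assoc, ← mul_assoc t, hta', mul_assoc (a ^ _) t, htt, mul_one, ← zpow_add]
            ring_nf)⟩
      inv_mem' := by
        rintro x ⟨j, rfl | rfl⟩
        · exact ⟨-j, Or.inl (by rw [← zpow_neg]; ring_nf)⟩
        · exact ⟨(m : ℤ) * (-j) - (-j), Or.inr (by
            rw [mul_inv_rev, inv_eq_of_mul_eq_one_right htt, ← zpow_neg, hta']; ring_nf)⟩ }
  have hQa : ∀ k : ℤ, a ^ k ∈ Q ↔ (2 : ℤ) ∣ k := by
    intro k
    constructor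
    · rintro ⟨j, e | e⟩
      · have := heven e
        omega
      · exact absurd e.symm (hne _ _)
    · rintro ⟨j, rfl⟩; exact ⟨j, Or.inl rfl⟩
  have hQt : ∀ k : ℤ, a ^ k * t ∈ Q ↔ (2 : ℤ) ∣ k := by
    intro k
    constructor
    · rintro ⟨j, e | e⟩
      · exact absurd e (hne _ _)
      · have := heven (mul_right_cancel e)
        omega
    · rintro ⟨j, rfl⟩; exact ⟨j, Or.inr rfl⟩
  have hQP : Q.relIndex (P : Subgroup G) = 2 := by
    rw [Subgroup.relIndex, Subgroup.index_eq_two_iff]
    refine ⟨⟨a, ha⟩, fun ⟨b, hb⟩ => ?_⟩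
    simp only [Subgroup.mem_subgroupOf, Subgroup.coe_mul]
    obtain ⟨k, rfl | rfl⟩ := hcases b hb
    · rw [← zpow_add_one, hQa, hQa, xor_iff_not_iff]; omega
    · have e : a ^ k * t * a = a ^ (k + ((m : ℤ) - 1)) * t := by
        have := hta' 1
        rw [zpow_one, mul_one] at this
        rw [mul_assoc, this, ← mul_assoc, ← zpow_add]
      rw [e, hQt, hQt, xor_iff_not_iff]
      obtain ⟨c, hc⟩ := hm2
      rw [hc]
      omega
  have hz1 : z ≠ 1 := ne_one_of_invol hzo
  have hzk : ∀ k : ℤ, z ^ k = 1 ↔ (2 : ℤ) ∣ k := fun k => by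
    rw [← orderOf_dvd_iff_zpow_eq_one, hzo]; norm_num
  have hw4 : w ^ 4 = 1 := by rw [← hwo]; exact pow_orderOf_eq_one w
  by_cases hex : ∃ g : G, g * w * g⁻¹ ∈ Q
  · obtain ⟨g, hg⟩ := hex
    have hv : orderOf (g * w * g⁻¹) = 4 := by rw [orderOf_conj, hwo]
    obtain ⟨j, e | e⟩ := hg
    · have hle : Subgroup.zpowers a ≤ Subgroup.centralizer ({g * w * g⁻¹} : Set G) :=
        Subgroup.zpowers_le.2 (Subgroup.mem_centralizer_singleton_iff.2 (by
          rw [e]; exact (Commute.self_zpow a _).eq))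
      have := Subgroup.card_le_of_le hle
      rw [Nat.card_zpowers, hao, card_centralizer_conj, hw] at this
      have : 2 ^ 3 ≤ 2 ^ (n - 1) := Nat.pow_le_pow_right two_pos (by omega)
      omega
    · have h2 : (g * w * g⁻¹) ^ 2 = 1 := by rw [e, sq, hsq, hzk]; exact ⟨j, rfl⟩
      have := orderOf_dvd_of_pow_eq_one h2
      rw [hv] at this
      omega
  · push Not at hex
    obtain ⟨M, hM, hM2⟩ := exists_index_two (P : Subgroup G) Q
      (Nat.odd_iff.2 (by have := P.not_dvd_index; omega)) hQP w hw4 hex (fun g hg => by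
        have hv2 : orderOf (g * w ^ 2 * g⁻¹) = 2 := by
          rw [orderOf_conj, orderOf_pow' w two_ne_zero, hwo]; norm_num
        obtain ⟨k, e | e⟩ := hcases _ hg
        · rw [e, hQa]
          have h1 : a ^ (2 * k) = a ^ (0 : ℤ) := by
            rw [mul_comm, zpow_mul, ← e, zpow_ofNat, zpow_zero, sq, mul_self_eq_one hv2]
          have hd : (orderOf a : ℤ) ∣ 2 * k := by
            rw [orderOf_dvd_iff_zpow_eq_one, h1, zpow_zero]
          rw [hord] at hd
          obtain ⟨c, hc⟩ := (mul_dvd_mul_iff_left (two_ne_zero (α := ℤ))).1 hd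
          obtain ⟨c', hc'⟩ := hm2
          exact ⟨(c' : ℤ) * c, by rw [hc, hc']; push_cast; ring⟩
        · rw [e, hQt, ← hzk, ← hsq, ← e]
          exact mul_self_eq_one hv2)
    exact no_index_two hG hM hM2

theorem reduce (hG : ¬ IsCyclic G) (w : G)
    (hw : Nat.card (Subgroup.centralizer ({w} : Set G)) ≤ 4) :
    Target G ∨ ∃ (P : Sylow 2 G) (τ : G), DihPairs.DihData P w τ 2 ∧
      (∀ s : G, orderOf s = 2 → IsConj (w ^ 2) s) ∧
      Nat.card (Subgroup.centralizer ({w} : Set G)) = 4 := by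
  have : Fact (Nat.Prime 2) := ⟨Nat.prime_two⟩
  have h60 := sixty_le hG
  set C := Subgroup.centralizer ({w} : Set G) with hC
  have hwC : w ∈ C := Subgroup.mem_centralizer_singleton_iff.2 rfl
  have hw1 : w ≠ 1 := by
    rintro rfl
    have htop : C = ⊤ :=
      (Subgroup.eq_top_iff' _).2 fun g => Subgroup.mem_centralizer_singleton_iff.2 (by simp)
    rw [htop, Subgroup.card_top] at hw
    omega
  have hC2 : 2 ≤ Nat.card C := by
    have h1 := Nat.le_of_dvd Nat.card_pos (Subgroup.orderOf_dvd_natCard _ hwC)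
    have : orderOf w ≠ 1 := fun e => hw1 (orderOf_eq_one_iff.1 e)
    have := orderOf_pos w
    omega
  rcases (show Nat.card C = 2 ∨ Nat.card C = 3 ∨ Nat.card C = 4 by omega) with h | h | h
  · exact (of_card_two hG w h).elim
  · exact Or.inl (of_card_three hG w h)
  obtain ⟨P, hP⟩ :=
    (IsPGroup.of_card (p := 2) (n := 2) (G := C) (by rw [h]; norm_num)).exists_le_sylow
  have h2 : 2 ∣ Nat.card G := (dvd_trans (by norm_num : (2 : ℕ) ∣ 4) (h ▸ C.card_subgroup_dvd_card))
  obtain ⟨n, hn⟩ := IsPGroup.iff_card.1 P.2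
  have hge := Subgroup.card_le_of_le hP
  rw [h, hn] at hge
  have hn2 : 2 ≤ n := by
    by_contra h0
    interval_cases n <;> omega
  rcases Nat.lt_or_ge n 3 with hn3 | hn3
  · obtain rfl : n = 2 := by omega
    exact Or.inl (of_sylow_four hG w h P (Subgroup.eq_of_le_of_card_ge hP (by rw [hn, h]; norm_num)).symm)
  -- larger Sylow subgroups
  set A := C.subgroupOf (P : Subgroup G) with hA
  have hAcard : Nat.card A = 2 ^ 2 := by
    rw [hA, Nat.card_congr (Subgroup.subgroupOfEquivOfLe hP).toEquiv, h]; norm_num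
  have hAc : Subgroup.centralizer (A : Set (P : Subgroup G)) = A := by
    refine le_antisymm (fun x hx => ?_) ?_
    · rw [hA, Subgroup.mem_subgroupOf, hC, Subgroup.mem_centralizer_singleton_iff]
      exact (congrArg Subtype.val (Subgroup.mem_centralizer_iff.1 hx ⟨w, hP hwC⟩ hwC)).symm
    · exact (Subgroup.le_centralizer_iff_isMulCommutative (K := A)).2
        ⟨⟨IsPGroup.commutative_of_card_eq_prime_sq (p := 2) (G := A) hAcard⟩⟩
  obtain ⟨a', t', z', ha, hi, ht, hz, hzo, hzc, hshape⟩ := sylow_shape n hn3 hn A hAcard hAc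
  set a : G := (a' : G) with haa
  set t : G := (t' : G) with htd
  set z : G := (z' : G) with hzd
  set m := 2 ^ (n - 2) with hm
  have hao : orderOf a = 2 ^ (n - 1) := by rw [haa, Subgroup.orderOf_coe, ha]
  have hao' : orderOf a = 2 * m := by
    rw [hao, hm, ← pow_succ']; congr 1; omega
  have hzo' : orderOf z = 2 := by rw [hzd, Subgroup.orderOf_coe, hzo]
  have hz' : z = a ^ m := by rw [hzd, haa, ← Subgroup.coe_pow, hm, ← hz]
  have hta : t ∉ Subgroup.zpowers a := fun hm' => ht (by
    obtain ⟨k, hk⟩ := Subgroup.mem_zpowers_iff.1 hm'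
    exact ⟨k, Subtype.ext (by rw [Subgroup.coe_zpow]; exact hk)⟩)
  have hcases : ∀ s ∈ (P : Subgroup G), ∃ i : ℤ, s = a ^ i ∨ s = a ^ i * t := by
    intro s hs
    by_cases hmem : (⟨s, hs⟩ : (P : Subgroup G)) ∈ Subgroup.zpowers a'
    · obtain ⟨i, hi'⟩ := Subgroup.mem_zpowers_iff.1 hmem
      exact ⟨i, Or.inl (by rw [haa, ← Subgroup.coe_zpow, hi'])⟩
    · have hst : (⟨s, hs⟩ : (P : Subgroup G)) * t'⁻¹ ∈ Subgroup.zpowers a' := by
        rw [Subgroup.mul_mem_iff_of_index_two hi, inv_mem_iff]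
        exact iff_of_false hmem ht
      obtain ⟨i, hi'⟩ := Subgroup.mem_zpowers_iff.1 hst
      refine ⟨i, Or.inr ?_⟩
      rw [haa, htd, ← Subgroup.coe_zpow, hi', ← Subgroup.coe_mul, inv_mul_cancel_right]
  have hzP : ∀ s ∈ (P : Subgroup G), s * z = z * s := fun s hs =>
    congrArg Subtype.val (hzc ⟨s, hs⟩)
  -- one class of involutions
  have hQle : Subgroup.zpowers a ≤ (P : Subgroup G) := Subgroup.zpowers_le.2 a'.2
  have hQi : (Subgroup.zpowers a).relIndex (P : Subgroup G) = 2 := by
    have h1 := ((Subgroup.zpowers a).subgroupOf (P : Subgroup G)).card_mul_index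
    rw [Nat.card_congr (Subgroup.subgroupOfEquivOfLe hQle).toEquiv, Nat.card_zpowers, hao', hn,
      show (2 : ℕ) ^ n = 2 * m * 2 by
        rw [hm, ← pow_succ', ← pow_succ]; congr 1; omega] at h1
    exact Nat.eq_of_mul_eq_mul_left (by positivity) h1
  have hone : ∀ s : G, orderOf s = 2 → IsConj z s := by
    intro s hs
    obtain ⟨g, hg⟩ : ∃ g : G, g * s * g⁻¹ ∈ Subgroup.zpowers a := by
      by_contra hcon
      push Not at hcon
      obtain ⟨M, hM, hM2, -⟩ := CfsgLib.ThompsonTransfer.exists_normal_index_two (P : Subgroup G)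
        (Subgroup.zpowers a) (Nat.odd_iff.2 (by have := P.not_dvd_index; omega)) hQi s
        (by rw [sq, mul_self_eq_one hs]) hcon
      exact no_index_two hG hM hM2
    refine (isConj_iff.2 ⟨g, ?_⟩ : IsConj s z).symm
    refine CfsgLib.Case.involution_eq_of_cyclic (inferInstance : IsCyclic (Subgroup.zpowers a)) hg
      ?_ (by rw [orderOf_conj, hs]) hzo'
    rw [hz']; exact pow_mem (Subgroup.mem_zpowers a) m
  have hn8 : 8 ≤ 2 ^ n := le_trans (by norm_num) (Nat.pow_le_pow_right two_pos hn3)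
  have hwne : orderOf w ≠ 2 := by
    intro h2w
    obtain ⟨g, hg⟩ := isConj_iff.1 (hone w h2w)
    have hle : (P : Subgroup G) ≤ Subgroup.centralizer ({z} : Set G) := fun s hs =>
      Subgroup.mem_centralizer_singleton_iff.2 (hzP s hs)
    have := Subgroup.card_le_of_le hle
    rw [hn, ← card_centralizer_conj g, hg, ← hC, h] at this
    omega
  have hwo : orderOf w = 4 := by
    have h1 := Subgroup.orderOf_dvd_natCard _ hwC
    rw [h, show (4 : ℕ) = 2 ^ 2 by norm_num] at h1
    obtain ⟨k, hk, e⟩ := (Nat.dvd_prime_pow Nat.prime_two).1 h1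
    interval_cases k
    · exact absurd (orderOf_eq_one_iff.1 (by simpa using e)) hw1
    · exact absurd (by simpa using e) hwne
    · simpa using e
  -- positions of `w`
  have hwa : w ∈ Subgroup.zpowers a → n = 3 := fun hm' => by
    have hle : Subgroup.zpowers a ≤ C := Subgroup.zpowers_le.2
      (Subgroup.mem_centralizer_singleton_iff.2 (by
        obtain ⟨i, rfl⟩ := Subgroup.mem_zpowers_iff.1 hm'
        exact (Commute.self_zpow a i).eq))
    have := Subgroup.card_le_of_le hle
    rw [Nat.card_zpowers, hao, h] at this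
    by_contra hne
    have : 2 ^ 3 ≤ 2 ^ (n - 1) := Nat.pow_le_pow_right two_pos (by omega)
    omega
  rcases hshape with ⟨htt', hconj'⟩ | ⟨htt', hconj'⟩ | ⟨hn4, htt', hconj'⟩
  · -- dihedral
    have htt : t * t = 1 := congrArg Subtype.val htt'
    have hconj : t * a * t⁻¹ = a⁻¹ := congrArg Subtype.val hconj'
    obtain ⟨i, hi' | hi'⟩ := hcases w (hP hwC)
    · have hn' := hwa ⟨i, hi'.symm⟩
      refine Or.inr ⟨P, t, ⟨hP hwC, t'.2, by rw [hwo], by rw [hn, hn']; norm_num, ?_, htt, ?_,
        two_pos⟩, fun s hs => ?_, h⟩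
      · have := conj_zpow_of_inverts hconj i
        rw [← hi', zpow_neg, ← hi'] at this
        exact this
      · intro hm'
        exact hta (Subgroup.zpowers_le.2 (by rw [hi']; exact ⟨i, rfl⟩) hm')
      · have hw2 : w ^ 2 = z := by
          refine CfsgLib.Case.involution_eq_of_cyclic (inferInstance : IsCyclic (Subgroup.zpowers a))
            (by rw [hi']; exact pow_mem (show a ^ i ∈ Subgroup.zpowers a from ⟨i, rfl⟩) 2) ?_
            (by rw [orderOf_pow' w two_ne_zero, hwo]; norm_num) hzo'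
          rw [hz']; exact pow_mem (Subgroup.mem_zpowers a) m
        rw [hw2]; exact hone s hs
    · exfalso
      have e : w * w = 1 := by
        rw [hi']
        calc a ^ i * t * (a ^ i * t) = a ^ i * (t * a ^ i * t⁻¹) * (t * t) := by group
          _ = 1 := by rw [conj_zpow_of_inverts hconj, htt, mul_one, zpow_neg, mul_inv_cancel]
      exact hwne (orderOf_eq_two hw1 e)
  · -- quaternion
    exfalso
    have htt : t * t = z := congrArg Subtype.val htt'
    have hconj : t * a * t⁻¹ = a⁻¹ := congrArg Subtype.val hconj'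
    have hinv : ∀ s ∈ (P : Subgroup G), s * s = 1 → s ≠ 1 → s = z := by
      intro s hs hs2 hs1
      obtain ⟨i, rfl | rfl⟩ := hcases s hs
      · refine CfsgLib.Case.involution_eq_of_cyclic (inferInstance : IsCyclic (Subgroup.zpowers a))
          ⟨i, rfl⟩ ?_ (orderOf_eq_two hs1 hs2) hzo'
        rw [hz']; exact pow_mem (Subgroup.mem_zpowers a) m
      · exfalso
        refine ne_one_of_invol hzo' ?_
        rw [← hs2]
        calc z = a ^ i * (t * a ^ i * t⁻¹) * (t * t) := by
              rw [conj_zpow_of_inverts hconj, htt, zpow_neg, mul_inv_cancel, one_mul]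
          _ = _ := by group
    have hrank : ∀ E : Subgroup G, ¬ IsKleinFour E := by
      intro E hE
      obtain ⟨Q, hQ⟩ := (IsPGroup.of_card (p := 2) (n := 2) (G := E)
        (by rw [hE.card_four]; norm_num)).exists_le_sylow
      obtain ⟨g, hg⟩ := MulAction.exists_smul_eq G Q P
      have hsub : ∀ x : E, g * x * g⁻¹ = 1 ∨ g * x * g⁻¹ = z := by
        intro x
        rcases eq_or_ne (g * (x : G) * g⁻¹) 1 with e | e
        · exact Or.inl e
        · refine Or.inr (hinv _ ?_ ?_ e)
          · rw [← hg]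
            exact (Subgroup.smul_mem_pointwise_smul_iff (a := MulAut.conj g) (x := (x : G))
              (S := (Q : Subgroup G))).2 (hQ x.2)
          · have hx : (x : G) * x = 1 := congrArg Subtype.val (IsKleinFour.mul_self x)
            calc g * x * g⁻¹ * (g * x * g⁻¹) = g * ((x : G) * x) * g⁻¹ := by group
              _ = 1 := by rw [hx]; group
      classical
      have hle : Nat.card E ≤ Nat.card Bool := by
        refine Nat.card_le_card_of_injective (fun x : E => decide (g * (x : G) * g⁻¹ = 1))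
          fun x y e => ?_
        simp only [decide_eq_decide] at e
        refine Subtype.ext (mul_left_cancel (mul_right_cancel (?_ : g * (x : G) * g⁻¹ = g * y * g⁻¹)))
        rcases hsub x with e1 | e1 <;> rcases hsub y with e2 | e2
        · rw [e1, e2]
        · rw [e1, e.1 e1]
        · rw [e.2 e2, e2]
        · rw [e1, e2]
      rw [hE.card_four, Nat.card_eq_fintype_card, Fintype.card_bool] at hle
      omega
    obtain ⟨c, hc, N, hN, hNo, hNc⟩ := CfsgLib.Invol.exists_central_mod_core (even_iff_two_dvd.2 h2) hrank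
    rcases hN.eq_bot_or_eq_top with e | e
    · have hcen : c ∈ Subgroup.center G := Subgroup.mem_center_iff.2 fun g => by
        have h' := Subgroup.mem_bot.1 (e ▸ hNc g)
        rw [mul_inv_eq_one, mul_inv_eq_iff_eq_mul] at h'
        exact h'.symm
      rcases (inferInstance : (Subgroup.center G).Normal).eq_bot_or_eq_top with e' | e'
      · rw [e', Subgroup.mem_bot] at hcen
        exact ne_one_of_invol hc hcen
      · exact not_comm hG ⟨⟨fun x y => Subgroup.mem_center_iff.1 (e' ▸ Subgroup.mem_top y) x⟩⟩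
    · rw [e, Subgroup.card_top] at hNo
      exact Nat.not_even_iff_odd.2 hNo (even_iff_two_dvd.2 h2)
  · -- semidihedral
    exfalso
    obtain ⟨i, hi' | hi'⟩ := hcases w (hP hwC)
    · have := hwa ⟨i, hi'.symm⟩
      omega
    · exact sd_no_four hG P hn4 a'.2 t'.2 hao hta hz' hzo' hcases (congrArg Subtype.val htt')
        (congrArg Subtype.val hconj') hi' hwo h

end CfsgLib.SmallCent
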