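import Cfsg.Agent.Lib.Invol.KleinOrder
import Cfsg.Agent.Lib.BlockReg.Integral
import Cfsg.Agent.Lib.SmallCent.Arith

/-!
# The order formula for Klein four Sylow 2-subgroups, in the form used here
-/

set_option autoImplicit false

namespace CfsgLib.SmallCent

open CfsgLib.Invol

universe u

theorem klein_formula {K : Type u} [Group K] [Finite K] (g₀ : ℕ) (hg₀ : Odd g₀)
    (hG : Nat.card K = 4 * g₀) (hnc : ¬ ∃ N : Subgroup K, N.Normal ∧ Nat.card N = g₀)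
    (P : Sylow 2 K) {J : K} (hJ : J ∈ (P : Subgroup K)) (hJ2 : orderOf J = 2) :
    ∃ a b c ε δ η : ℤ, (1 ≤ a ∧ 1 ≤ b ∧ 1 ≤ c) ∧
      ((ε = 1 ∨ ε = -1) ∧ (δ = 1 ∨ δ = -1) ∧ (η = 1 ∨ η = -1)) ∧
      1 + ε * a + δ * b + η * c = 0 ∧ (a + ε) * (b + δ) * (c + η) ≠ 0 ∧
      (Nat.card K : ℤ) * (Nat.card (Subgroup.centralizer ((P : Subgroup K) : Set K)) : ℤ) ^ 2 *
        ((a + ε) * (b + δ) * (c + η)) =
      8 * (Nat.card (Subgroup.centralizer ({J} : Set K)) : ℤ) ^ 3 * (a * b * c) := by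
  classical
  obtain ⟨M, hM⟩ := CfsgLib.BlockReg.exists_isPModular Nat.prime_two
  obtain ⟨hK, -, hone⟩ := KleinOrder.setting g₀ hg₀ hG hnc P hJ hJ2
  obtain ⟨ρ, s, hinj, hρ0, hmem, -, hs2, hval, -, -, -⟩ :=
    KleinBlock.exists_four P hK (fun s t hs ht => (hone s hs).symm.trans (hone t ht)) hM
  have hne : ∀ i : Fin 4, i ≠ 0 → (ρ i : K → ℂ) ≠ fun _ => 1 := fun i hi e =>
    hi (hinj (hρ0 ▸ Subtype.ext (e.trans (funext fun g => (CfsgLib.Char.principalIrr_apply g).symm))))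
  have hB : Cfsg.principalBlock M K =
      {χ : Cfsg.IrrCharacter K | (χ : K → ℂ) = (fun _ => 1) ∨ χ = ρ 1 ∨ χ = ρ 2 ∨ χ = ρ 3} := by
    ext χ
    rw [← BlockCol.mem_pBlock, hmem, Set.mem_setOf_eq, Fin.exists_fin_succ, Fin.exists_fin_succ,
      Fin.exists_fin_succ, Fin.exists_fin_succ, hρ0]
    simp only [IsEmpty.exists_iff, or_false, Fin.succ_zero_eq_one, Fin.succ_one_eq_two]
    refine or_congr ⟨fun e => ?_, fun e => ?_⟩ (or_congr eq_comm (or_congr eq_comm eq_comm))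
    · rw [← e]; exact funext CfsgLib.Char.principalIrr_apply
    · exact Subtype.ext ((funext CfsgLib.Char.principalIrr_apply).trans e.symm)
  have hε : ∀ i, s i = 1 ∨ s i = -1 := fun i => mul_self_eq_one_iff.1 (hs2 i)
  obtain ⟨-, hdeg, -, hne', h⟩ := KleinOrder.order_formula hM hg₀ hG hnc P hJ hJ2 (ρ 1) (ρ 2) (ρ 3)
    (s 1) (s 2) (s 3) hB
    ⟨hne 1 (by decide), hne 2 (by decide), hne 3 (by decide), hinj.ne (by decide),
      hinj.ne (by decide), hinj.ne (by decide)⟩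
    ⟨hε 1, hε 2, hε 3⟩ ⟨hval 1 J hJ2, hval 2 J hJ2, hval 3 J hJ2⟩
  refine ⟨(Cfsg.charDegree (ρ 1 : K → ℂ) : ℤ), (Cfsg.charDegree (ρ 2 : K → ℂ) : ℤ),
    (Cfsg.charDegree (ρ 3 : K → ℂ) : ℤ), s 1, s 2, s 3,
    ⟨?_, ?_, ?_⟩, ⟨hε 1, hε 2, hε 3⟩, hdeg, ?_, ?_⟩
  · exact_mod_cast CfsgLib.Blk83.deg_pos (ρ 1)
  · exact_mod_cast CfsgLib.Blk83.deg_pos (ρ 2)
  · exact_mod_cast CfsgLib.Blk83.deg_pos (ρ 3)
  · intro e
    exact hne' (by exact_mod_cast e)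
  · exact_mod_cast h

end CfsgLib.SmallCent
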