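import Cfsg.Agent.Lib.SmallCent.Setup
import Cfsg.Agent.Lib.SmallCent.Klein
import Mathlib.GroupTheory.PGroup

/-!
# The centraliser of the fixed group of a reflection
-/

set_option autoImplicit false

namespace CfsgLib.SmallCent

open CfsgLib.Invol

universe u

variable {G : Type u} [Group G] [Finite G] {P : Sylow 2 G} {w τ : G}

theorem z_mul_z (S : Setup P w τ) : w ^ 2 * w ^ 2 = 1 := mul_self_eq_one (DihPairs.orderOf_J S.d)

theorem tau_z (S : Setup P w τ) : τ * w ^ 2 = w ^ 2 * τ := DihPairs.comm_J S.d S.d.hτ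

theorem w_tau (S : Setup P w τ) : w * τ * w⁻¹ = w ^ 2 * τ := by
  have h := DihPairs.refl_conj S.d 1 0
  rwa [pow_one, pow_zero, one_mul] at h

theorem swap (S : Setup P w τ) : Setup P w (w * τ) := by
  refine ⟨⟨S.d.hσ, mul_mem S.d.hσ S.d.hτ, S.d.ord, S.d.card, ?_, ?_, ?_, S.d.pos⟩, S.hone, S.hw⟩
  · calc w * τ * w * (w * τ)⁻¹ = w * (τ * w * τ⁻¹) * w⁻¹ := by group
      _ = w⁻¹ := by rw [S.d.inv]; group
  · have := DihPairs.refl_sq S.d 1
    rwa [pow_one] at this
  · have := DihPairs.refl_not_mem S.d 1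
    rwa [pow_one] at this

theorem fix_swap_swap (S : Setup P w τ) : fix w (w * (w * τ)) = fix w τ := by
  ext x
  rw [mem_fix, mem_fix]
  refine and_congr_right fun hx => ?_
  have hz := z_comm S hx
  rw [show w * (w * τ) = w ^ 2 * τ by rw [← mul_assoc, sq]]
  constructor
  · intro h
    calc x * τ = (w ^ 2)⁻¹ * (x * (w ^ 2 * τ)) := by rw [← mul_assoc x, hz]; group
      _ = τ * x := by rw [h]; group
  · intro h
    rw [← mul_assoc, hz, mul_assoc, h, mul_assoc]

theorem card_fix_odd (S : Setup P w τ) (r : G) : Odd (Nat.card (fix w r)) := by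
  have hd : Nat.card (fix w r) ∣ Nat.card (DihPairs.core (w ^ 2)) :=
    Subgroup.card_dvd_of_le inf_le_left
  refine Odd.of_dvd_nat ?_ hd
  rw [Nat.odd_iff, DihPairs.core, Subgroup.card_map_of_injective (Subgroup.subtype_injective _)]
  have := (DihPairs.index_core S.d).2
  omega

theorem core_card_odd (S : Setup P w τ) : Odd (Nat.card (DihPairs.core (w ^ 2))) := by
  rw [← card_core S]
  exact (card_fix_odd S _).mul (card_fix_odd S _)

/-- The four-group `{1, z, τ, z τ}`. -/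
def four (w τ : G) (q : Fin 2 × Fin 2) : G := (w ^ 2) ^ (q.1 : ℕ) * τ ^ (q.2 : ℕ)

theorem four_mem (S : Setup P w τ) (q : Fin 2 × Fin 2) : four w τ q ∈ (P : Subgroup G) :=
  mul_mem (pow_mem (pow_mem S.d.hσ 2) _) (pow_mem S.d.hτ _)

theorem four_injective (S : Setup P w τ) : Function.Injective (four w τ) := by
  have hz1 := ne_one_of_invol (DihPairs.orderOf_J S.d)
  have ht : ∀ i, τ ≠ w ^ i := fun i e => by
    have := DihPairs.refl_ne S.d 0 i
    rw [pow_zero, one_mul] at this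
    exact this e
  have h20 : w ^ 2 * τ ≠ 1 := fun e => DihPairs.refl_ne S.d 2 0 (e.trans (pow_zero w).symm)
  have h22 : w ^ 2 * τ ≠ w ^ 2 := DihPairs.refl_ne S.d 2 2
  have h2t : w ^ 2 * τ ≠ τ := fun e => hz1 (mul_eq_right.1 e)
  have ht0 : τ ≠ 1 := fun e => ht 0 (e.trans (pow_zero w).symm)
  have ht2 := ht 2
  rintro ⟨i, j⟩ ⟨i', j'⟩ e
  simp only [four] at e
  fin_cases i <;> fin_cases j <;> fin_cases i' <;> fin_cases j' <;>
    simp only [Fin.zero_eta, Fin.mk_one, Fin.val_zero, Fin.val_one, pow_zero, pow_one, one_mul,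
      mul_one] at e ⊢
  all_goals first
    | rfl
    | exact absurd e hz1
    | exact absurd e.symm hz1
    | exact absurd e ht0
    | exact absurd e.symm ht0
    | exact absurd e ht2
    | exact absurd e.symm ht2
    | exact absurd e h20
    | exact absurd e.symm h20
    | exact absurd e h22
    | exact absurd e.symm h22
    | exact absurd e h2t
    | exact absurd e.symm h2t

theorem four_comm (S : Setup P w τ) (q : Fin 2 × Fin 2) :
    four w τ q * τ = τ * four w τ q ∧ four w τ q * w ^ 2 = w ^ 2 * four w τ q := by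
  have h := tau_z S
  have h1 : Commute τ ((w ^ 2) ^ (q.1 : ℕ) * τ ^ (q.2 : ℕ)) :=
    (Commute.pow_right h _).mul_right (Commute.self_pow τ _)
  exact ⟨h1.eq.symm, DihPairs.comm_J S.d (four_mem S q)⟩

theorem four_sq (S : Setup P w τ) (q : Fin 2 × Fin 2) : four w τ q * four w τ q = 1 := by
  have hc : Commute ((w ^ 2) ^ (q.1 : ℕ)) (τ ^ (q.2 : ℕ)) :=
    (show Commute (w ^ 2) τ from (tau_z S).symm).pow_pow _ _
  have h1 : ∀ (x : G) (n : ℕ), x * x = 1 → (x ^ n) ^ 2 = 1 := fun x n h => by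
    rw [← pow_mul, mul_comm, pow_mul, sq, h, one_pow]
  rw [four, ← sq, hc.mul_pow, h1 _ _ (z_mul_z S), h1 _ _ S.d.sq, one_mul]

/-- The joint centraliser of `z` and `τ`. -/
theorem pair_decomp (S : Setup P w τ) {c : G} (h1 : c * w ^ 2 = w ^ 2 * c) (h2 : c * τ = τ * c) :
    ∃ a ∈ fix w τ, ∃ q, c = a * four w τ q := by
  have hmem : ∀ p : fix w τ × (Fin 2 × Fin 2),
      (p.1 : G) * four w τ p.2 ∈ Subgroup.centralizer ({w ^ 2, τ} : Set G) := by
    rintro ⟨⟨a, ha⟩, q⟩
    obtain ⟨ho, hc⟩ := mem_fix.1 ha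
    obtain ⟨f1, f2⟩ := four_comm S q
    exact DihPairs.centralizer_pair_mem.2 ⟨(Commute.mul_left (z_comm S ho) f2).eq,
      (Commute.mul_left hc f1).eq⟩
  let f : fix w τ × (Fin 2 × Fin 2) → Subgroup.centralizer ({w ^ 2, τ} : Set G) :=
    fun p => ⟨_, hmem p⟩
  have hinj : Function.Injective f := by
    rintro ⟨a, q⟩ ⟨a', q'⟩ e
    obtain ⟨e1, e2⟩ := DihPairs.decomp_unique S.d (mem_fix.1 a.2).1 (mem_fix.1 a'.2).1
      (four_mem S q) (four_mem S q') (congrArg Subtype.val e)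
    exact Prod.ext (Subtype.ext e1) (four_injective S e2)
  have hbij := hinj.bijective_of_nat_card_le (by
    rw [(card_pair S).1, Nat.card_prod, Nat.card_prod, Nat.card_fin]; omega)
  obtain ⟨⟨a, q⟩, hq⟩ := hbij.2 ⟨c, DihPairs.centralizer_pair_mem.2 ⟨h1, h2⟩⟩
  exact ⟨a, a.2, q, (congrArg Subtype.val hq).symm⟩

theorem mem_fix_iff (S : Setup P w τ) {x : G} :
    x ∈ fix w τ ↔ (x * w ^ 2 = w ^ 2 * x ∧ x * τ = τ * x) ∧ x ^ Nat.card (fix w τ) = 1 := by
  constructor
  · intro hx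
    obtain ⟨ho, hc⟩ := mem_fix.1 hx
    exact ⟨⟨z_comm S ho, hc⟩, congrArg Subtype.val (pow_card_eq_one' (x := (⟨x, hx⟩ : fix w τ)))⟩
  · rintro ⟨⟨h1, h2⟩, h3⟩
    obtain ⟨a, ha, q, rfl⟩ := pair_decomp S h1 h2
    obtain ⟨ho, hc⟩ := mem_fix.1 ha
    have hcomm : Commute a (four w τ q) :=
      ((show Commute a (w ^ 2) from z_comm S ho).pow_right _).mul_right
        ((show Commute a τ from hc).pow_right _)
    have h4 : a ^ Nat.card (fix w τ) = 1 := congrArg Subtype.val (pow_card_eq_one' (x := (⟨a, ha⟩ : fix w τ)))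
    obtain ⟨k, hk⟩ := card_fix_odd S τ
    rw [hcomm.mul_pow, h4, one_mul, hk, pow_succ, pow_mul, sq, four_sq S, one_pow, one_mul] at h3
    rw [h3, mul_one]
    exact ha

/-- An element cycling the three involutions of the four-group and centralising `fix w τ`. -/
theorem exists_cycle (S : Setup P w τ) :
    ∃ d : G, d * w ^ 2 * d⁻¹ = w ^ 2 * τ ∧ d * τ * d⁻¹ = w ^ 2 ∧
      ∀ a ∈ fix w τ, d * a = a * d := by
  have : Fact (Nat.Prime 2) := ⟨Nat.prime_two⟩
  have hτ : orderOf τ = 2 := orderOf_eq_two (fun h => S.d.not_mem (h ▸ one_mem _)) S.d.sq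
  have hz := DihPairs.orderOf_J S.d
  obtain ⟨g, hg⟩ := isConj_iff.1 (S.hone τ hτ).symm
  set C := Subgroup.centralizer ({w ^ 2} : Set G) with hC
  have hr : g * w ^ 2 * g⁻¹ ∈ C := by
    refine Subgroup.mem_centralizer_singleton_iff.2 ?_
    calc g * w ^ 2 * g⁻¹ * w ^ 2 = g * (w ^ 2 * τ) * g⁻¹ := by rw [← hg]; group
      _ = g * (τ * w ^ 2) * g⁻¹ := by rw [tau_z S]
      _ = w ^ 2 * (g * w ^ 2 * g⁻¹) := by rw [← hg]; group
  set r : C := ⟨_, hr⟩ with hrd
  have hro : orderOf r = 2 := by rw [hrd, Subgroup.orderOf_mk, orderOf_conj, hz]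
  obtain ⟨Q, hQ⟩ := (IsPGroup.of_card (G := Subgroup.zpowers r) (p := 2) (n := 1)
    (by rw [Nat.card_zpowers, hro, pow_one])).exists_le_sylow
  obtain ⟨c, hc⟩ := MulAction.exists_smul_eq C Q (P.subtype (DihPairs.le_centralizer S.d))
  have hcr : c * r * c⁻¹ ∈ ((P.subtype (DihPairs.le_centralizer S.d) : Sylow 2 C) : Subgroup C) := by
    rw [← hc]
    exact (Subgroup.smul_mem_pointwise_smul_iff (a := MulAut.conj c) (x := r)
      (S := (Q : Subgroup C))).2 (hQ (Subgroup.mem_zpowers r))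
  set h : G := (c : G) * g with hh
  have hcz : (c : G) * w ^ 2 = w ^ 2 * c := Subgroup.mem_centralizer_singleton_iff.1 c.2
  have h1 : h * τ * h⁻¹ = w ^ 2 := by
    calc h * τ * h⁻¹ = (c : G) * (g * τ * g⁻¹) * (c : G)⁻¹ := by rw [hh]; group
      _ = w ^ 2 := by rw [hg, hcz, mul_inv_cancel_right]
  set r' := h * w ^ 2 * h⁻¹ with hr'
  have hr'P : r' ∈ (P : Subgroup G) := by
    have : ((c * r * c⁻¹ : C) : G) = r' := by
      rw [hr', hh, hrd]; simp only [Subgroup.coe_mul, Subgroup.coe_inv]; group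
    rw [← this]
    exact hcr
  have hwr : w * r' * w⁻¹ = w ^ 2 * r' := by
    have hne : r' ≠ w ^ 2 := by
      intro e
      rw [hr'] at e
      have e2 : w ^ 2 = τ := mul_left_cancel (mul_right_cancel (e.trans h1.symm))
      exact DihPairs.refl_ne S.d 0 2 (by rw [pow_zero, one_mul]; exact e2.symm)
    have ho' : orderOf r' = 2 := by rw [hr', orderOf_conj, hz]
    obtain ⟨i, hi, e | e⟩ := DihPairs.cases S.d hr'P
    · exfalso
      interval_cases i
      · exact ne_one_of_invol ho' (e.trans (pow_zero w))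
      · rw [e, pow_one, S.d.ord] at ho'; omega
      · exact hne e
      · rw [e, orderOf_pow' w (by norm_num : (3 : ℕ) ≠ 0), S.d.ord] at ho'; norm_num at ho'
    · have h2 := DihPairs.refl_conj S.d 1 i
      rw [pow_one] at h2
      rw [e, h2, ← mul_assoc (w ^ 2), ← pow_add]
      congr 2; omega
  set w' : G := h⁻¹ * w * h with hw'
  have e1 : w' * τ * w'⁻¹ = τ := by
    calc w' * τ * w'⁻¹ = h⁻¹ * (w * (h * τ * h⁻¹) * w⁻¹) * h := by rw [hw']; group
      _ = h⁻¹ * (h * τ * h⁻¹) * h := by rw [h1, w_comm_z, mul_inv_cancel_right]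
      _ = τ := by group
  have e2 : w' * w ^ 2 * w'⁻¹ = w ^ 2 * τ := by
    calc w' * w ^ 2 * w'⁻¹ = h⁻¹ * (w * r' * w⁻¹) * h := by rw [hw', hr']; group
      _ = h⁻¹ * (h * τ * h⁻¹ * r') * h := by rw [hwr, h1]
      _ = τ * w ^ 2 := by rw [hr']; group
      _ = _ := tau_z S
  have e3 : w' * w' = τ := by
    calc w' * w' = h⁻¹ * w ^ 2 * h := by rw [hw', sq]; group
      _ = τ := by rw [← h1]; group
  refine ⟨w' * w, ?_, ?_, ?_⟩
  · calc w' * w * w ^ 2 * (w' * w)⁻¹ = w' * (w * w ^ 2 * w⁻¹) * w'⁻¹ := by group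
      _ = _ := by rw [w_comm_z, mul_inv_cancel_right, e2]
  · calc w' * w * τ * (w' * w)⁻¹ = w' * (w * τ * w⁻¹) * w'⁻¹ := by group
      _ = w' * w ^ 2 * w'⁻¹ * (w' * τ * w'⁻¹) := by rw [w_tau S]; group
      _ = w ^ 2 := by rw [e2, e1, mul_assoc, S.d.sq, mul_one]
  · intro a ha
    -- `w'` normalises the fixed group
    have hn : ∀ x ∈ fix w τ, w' * x * w'⁻¹ ∈ fix w τ := by
      intro x hx
      obtain ⟨⟨x1, x2⟩, x3⟩ := (mem_fix_iff S).1 hx
      refine (mem_fix_iff S).2 ⟨?_, by rw [conj_pow, x3, mul_one, mul_inv_cancel]⟩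
      have k1 : Commute (w' * x * w'⁻¹) (w' * τ * w'⁻¹) := (Commute.conj_iff w').2 x2
      have k2 : Commute (w' * x * w'⁻¹) (w' * w ^ 2 * w'⁻¹) := (Commute.conj_iff w').2 x1
      rw [e1] at k1
      rw [e2] at k2
      have k3 := k2.mul_right k1
      rw [mul_assoc (w ^ 2), S.d.sq, mul_one] at k3
      exact ⟨k3.eq, k1.eq⟩
    have hinv : ∀ x ∈ fix w τ, w * x * w⁻¹ = x⁻¹ := fun x hx => w_inv S (mem_fix.1 hx).1
    set d := w' * w with hd
    have hd1 : ∀ x ∈ fix w τ, d * x * d⁻¹ = (w' * x * w'⁻¹)⁻¹ := fun x hx => by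
      calc d * x * d⁻¹ = w' * (w * x * w⁻¹) * w'⁻¹ := by rw [hd]; group
        _ = _ := by rw [hinv x hx]; group
    have hd2 : ∀ x ∈ fix w τ, d * (d * x * d⁻¹) * d⁻¹ = x := fun x hx => by
      rw [hd1 x hx, hd1 _ (inv_mem (hn x hx))]
      have ex : τ * x * τ⁻¹ = x := by rw [← (mem_fix.1 hx).2, mul_inv_cancel_right]
      have e4 : (w' * (w' * x * w'⁻¹)⁻¹ * w'⁻¹)⁻¹ = w' * w' * x * (w' * w')⁻¹ := by
        simp only [mul_inv_rev, inv_inv, mul_assoc]
      rw [e4, e3, ex]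
    have d1 : d * w ^ 2 * d⁻¹ = w ^ 2 * τ := by
      calc d * w ^ 2 * d⁻¹ = w' * (w * w ^ 2 * w⁻¹) * w'⁻¹ := by rw [hd]; group
        _ = _ := by rw [w_comm_z, mul_inv_cancel_right, e2]
    have d2 : d * τ * d⁻¹ = w ^ 2 := by
      calc d * τ * d⁻¹ = w' * (w * τ * w⁻¹) * w'⁻¹ := by rw [hd]; group
        _ = w' * w ^ 2 * w'⁻¹ * (w' * τ * w'⁻¹) := by rw [w_tau S]; group
        _ = w ^ 2 := by rw [e2, e1, mul_assoc, S.d.sq, mul_one]
    have d3z : (d * d * d) * w ^ 2 = w ^ 2 * (d * d * d) := by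
      refine mul_inv_eq_iff_eq_mul.1 ?_
      calc d * d * d * w ^ 2 * (d * d * d)⁻¹ = d * (d * (d * w ^ 2 * d⁻¹) * d⁻¹) * d⁻¹ := by group
        _ = d * (d * (w ^ 2 * τ) * d⁻¹) * d⁻¹ := by rw [d1]
        _ = d * ((d * w ^ 2 * d⁻¹) * (d * τ * d⁻¹)) * d⁻¹ := by group
        _ = d * (w ^ 2 * τ * w ^ 2) * d⁻¹ := by rw [d1, d2]
        _ = d * τ * d⁻¹ := by
          rw [mul_assoc (w ^ 2) τ, tau_z S, ← mul_assoc (w ^ 2) (w ^ 2), z_mul_z S, one_mul]
        _ = w ^ 2 := d2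
    have d3t : (d * d * d) * τ = τ * (d * d * d) := by
      refine mul_inv_eq_iff_eq_mul.1 ?_
      calc d * d * d * τ * (d * d * d)⁻¹ = d * (d * (d * τ * d⁻¹) * d⁻¹) * d⁻¹ := by group
        _ = d * (w ^ 2 * τ) * d⁻¹ := by rw [d2, d1]
        _ = (d * w ^ 2 * d⁻¹) * (d * τ * d⁻¹) := by group
        _ = τ := by rw [d1, d2, mul_assoc, tau_z S, ← mul_assoc, z_mul_z S, one_mul]
    obtain ⟨a', ha', q, hq⟩ := pair_decomp S d3z d3t
    have d3a : d * d * d * a = a * (d * d * d) := by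
      rw [hq]
      have k1 : Commute a' a := core_comm S (mem_fix.1 ha').1 (mem_fix.1 ha).1
      have k2 : Commute (four w τ q) a :=
        (((show Commute a (w ^ 2) from z_comm S (mem_fix.1 ha).1).pow_right _).mul_right
          ((show Commute a τ from (mem_fix.1 ha).2).pow_right _)).symm
      exact (k1.mul_left k2).eq
    have hda : d * a * d⁻¹ ∈ fix w τ := by rw [hd1 a ha]; exact inv_mem (hn a ha)
    refine mul_inv_eq_iff_eq_mul.1 ?_
    calc d * a * d⁻¹ = d * (d * (d * a * d⁻¹) * d⁻¹) * d⁻¹ := (hd2 _ hda).symm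
      _ = d * d * d * a * (d * d * d)⁻¹ := by group
      _ = a := by rw [d3a, mul_inv_cancel_right]

/-- Elements of the Sylow subgroup centralising the fixed group lie in the four-group. -/
theorem exists_four_of_comm (S : Setup P w τ) (hA : 1 < Nat.card (fix w τ)) {s : G}
    (hs : s ∈ (P : Subgroup G)) (hc : ∀ a ∈ fix w τ, a * s = s * a) : ∃ q, s = four w τ q := by
  obtain ⟨⟨a, ha⟩, hane⟩ : ∃ a : fix w τ, a ≠ 1 :=
    haveI := Finite.one_lt_card_iff_nontrivial.1 hA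
    exists_ne 1
  have ha1 : a ≠ 1 := fun e => hane (Subtype.ext e)
  have hne : w * a * w⁻¹ ≠ a := fun e => ha1 (eq_one_of_comm S (mem_fix.1 ha).1
    (mul_inv_eq_iff_eq_mul.1 e).symm)
  have hsa := hc a ha
  have haz : Commute a (w ^ 2) := z_comm S (mem_fix.1 ha).1
  have hat : Commute a τ := (mem_fix.1 ha).2
  have hw : ¬ Commute a w := fun h => hne (by rw [← h.eq, mul_inv_cancel_right])
  have cancel : ∀ x y : G, Commute a (x * y) → Commute a y → Commute a x := fun x y h1 h2 => by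
    have := h1.mul_right h2.inv_right
    rwa [mul_inv_cancel_right] at this
  have cancel' : ∀ x y : G, Commute a (x * y) → Commute a x → Commute a y := fun x y h1 h2 => by
    have := h2.inv_right.mul_right h1
    rwa [inv_mul_cancel_left] at this
  obtain ⟨i, hi, rfl | rfl⟩ := DihPairs.cases S.d hs
  · interval_cases i
    · exact ⟨(0, 0), by simp [four]⟩
    · exact absurd (by simpa using hsa : a * w = w * a) hw
    · exact ⟨(1, 0), by simp [four]⟩
    · exact absurd (cancel' (w ^ 2) w (by rw [← pow_succ]; exact hsa) haz) hw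
  · have h1 : Commute a (w ^ i) := cancel (w ^ i) τ hsa hat
    interval_cases i
    · exact ⟨(0, 1), by simp [four]⟩
    · exact absurd (by simpa using h1) hw
    · exact ⟨(1, 1), by simp [four]⟩
    · exact absurd (cancel' (w ^ 2) w (by rw [← pow_succ]; exact h1) haz) hw

/-- The centraliser of `fix w τ` has a four-group as Sylow 2-subgroup and one class of
involutions. -/
theorem centralizer_fix (S : Setup P w τ) (hA : 1 < Nat.card (fix w τ)) :
    ∃ (g₀ : ℕ) (a b c ε δ η : ℤ), Odd g₀ ∧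
      Nat.card (Subgroup.centralizer (fix w τ : Set G)) = 4 * g₀ ∧
      (1 ≤ a ∧ 1 ≤ b ∧ 1 ≤ c) ∧
      ((ε = 1 ∨ ε = -1) ∧ (δ = 1 ∨ δ = -1) ∧ (η = 1 ∨ η = -1)) ∧
      1 + ε * a + δ * b + η * c = 0 ∧ (a + ε) * (b + δ) * (c + η) ≠ 0 ∧
      (Nat.card (Subgroup.centralizer (fix w τ : Set G)) : ℤ) * (4 * (Nat.card (fix w τ) : ℤ)) ^ 2 *
        ((a + ε) * (b + δ) * (c + η)) =
      8 * (4 * ((Nat.card (fix w τ) : ℤ) * Nat.card (fix w (w * τ)))) ^ 3 * (a * b * c) := by
  have : Fact (Nat.Prime 2) := ⟨Nat.prime_two⟩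
  obtain ⟨d, d1, d2, d3⟩ := exists_cycle S
  set A := fix w τ with hAd
  set M := Subgroup.centralizer (A : Set G) with hM
  have hzM : w ^ 2 ∈ M := Subgroup.mem_centralizer_iff.2 fun a ha => z_comm S (mem_fix.1 ha).1
  have hτM : τ ∈ M := Subgroup.mem_centralizer_iff.2 fun a ha => (mem_fix.1 ha).2
  have hdM : d ∈ M := Subgroup.mem_centralizer_iff.2 fun a ha => (d3 a ha).symm
  have hqM : ∀ q, four w τ q ∈ M := fun q => mul_mem (pow_mem hzM _) (pow_mem hτM _)
  -- the centraliser of `z` in `M`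
  have hcz : ∀ x : M, x * ⟨w ^ 2, hzM⟩ = ⟨w ^ 2, hzM⟩ * x ↔ (x : G) * w ^ 2 = w ^ 2 * x :=
    fun x => ⟨congrArg Subtype.val, fun h => Subtype.ext h⟩
  have hCz : Nat.card (Subgroup.centralizer ({⟨w ^ 2, hzM⟩} : Set M)) =
      4 * (Nat.card A * Nat.card (fix w (w * τ))) := by
    rw [hAd, card_core S, mul_comm,
      show Nat.card (DihPairs.core (w ^ 2)) * 4 =
        Nat.card (DihPairs.core (w ^ 2) × (Fin 2 × Fin 2)) by simp [Nat.card_prod]]
    symm
    have hoM : ∀ o ∈ DihPairs.core (w ^ 2), o ∈ M := fun o ho =>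
      Subgroup.mem_centralizer_iff.2 fun a ha => core_comm S (mem_fix.1 ha).1 ho
    refine Nat.card_eq_of_bijective (fun p => ⟨⟨(p.1 : G) * four w τ p.2,
      mul_mem (hoM _ p.1.2) (hqM _)⟩, Subgroup.mem_centralizer_singleton_iff.2 ((hcz _).2
        (Commute.mul_left (z_comm S p.1.2) (four_comm S p.2).2).eq)⟩) ⟨?_, ?_⟩
    · rintro ⟨o, q⟩ ⟨o', q'⟩ e
      obtain ⟨e1, e2⟩ := DihPairs.decomp_unique S.d o.2 o'.2 (four_mem S q) (four_mem S q')
        (congrArg (fun x => ((x : M) : G)) (congrArg Subtype.val e))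
      exact Prod.ext (Subtype.ext e1) (four_injective S e2)
    · rintro ⟨⟨x, hxM⟩, hx⟩
      obtain ⟨o, ho, s, hs, rfl⟩ := DihPairs.exists_decomp S.d
        ((hcz _).1 (Subgroup.mem_centralizer_singleton_iff.1 hx))
      obtain ⟨q, rfl⟩ := exists_four_of_comm S hA hs (fun a ha => by
        have hsM : s ∈ M := by
          have := mul_mem (inv_mem (hoM o ho)) hxM
          rwa [inv_mul_cancel_left] at this
        exact Subgroup.mem_centralizer_iff.1 hsM a ha)
      exact ⟨(⟨o, ho⟩, q), rfl⟩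
  -- a Sylow subgroup of `M`
  set U : Subgroup M := ((P : Subgroup G).subgroupOf M) with hU
  have hUmem : ∀ x : M, x ∈ U ↔ ∃ q, (x : G) = four w τ q := by
    intro x
    constructor
    · intro hx
      exact exists_four_of_comm S hA hx fun a ha => Subgroup.mem_centralizer_iff.1 x.2 a ha
    · rintro ⟨q, hq⟩
      show (x : G) ∈ (P : Subgroup G)
      rw [hq]; exact four_mem S q
  have hUcard : Nat.card U = 4 := by
    rw [show (4 : ℕ) = Nat.card (Fin 2 × Fin 2) by simp [Nat.card_prod]]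
    symm
    refine Nat.card_eq_of_bijective (fun q => ⟨⟨_, hqM q⟩, (hUmem _).2 ⟨q, rfl⟩⟩) ⟨?_, ?_⟩
    · intro q q' e
      exact four_injective S (congrArg (fun x => ((x : M) : G)) (congrArg Subtype.val e))
    · rintro ⟨x, hx⟩
      obtain ⟨q, hq⟩ := (hUmem x).1 hx
      exact ⟨q, Subtype.ext (Subtype.ext hq.symm)⟩
  obtain ⟨R, hR⟩ := (IsPGroup.of_card (p := 2) (n := 2) (G := U) (by rw [hUcard]; norm_num)).exists_le_sylow
  set J : M := ⟨w ^ 2, hzM⟩ with hJd
  have hJU : J ∈ U := (hUmem J).2 ⟨(1, 0), by simp [four, hJd]⟩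
  have htU : (⟨τ, hτM⟩ : M) ∈ U := (hUmem _).2 ⟨(0, 1), by simp [four]⟩
  have : Nontrivial (R : Subgroup M) := by
    rw [← Finite.one_lt_card_iff_nontrivial]
    have := Subgroup.card_le_of_le hR
    omega
  have hcen : Nontrivial (Subgroup.center (R : Subgroup M)) := R.2.center_nontrivial
  have hRU : (R : Subgroup M) = U := by
    obtain ⟨⟨e, he⟩, he1⟩ := exists_prime_orderOf_dvd_card' 2 (G := Subgroup.center (R : Subgroup M)) (by
      obtain ⟨k, hk⟩ := IsPGroup.iff_card.1 (R.2.to_subgroup (Subgroup.center (R : Subgroup M)))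
      have := Finite.one_lt_card (α := Subgroup.center (R : Subgroup M))
      rw [hk] at this ⊢
      exact dvd_pow_self 2 (by rintro rfl; simp at this))
    rw [Subgroup.orderOf_mk] at he1
    have hec : ∀ y ∈ (R : Subgroup M), (y : M) * e = e * y := fun y hy =>
      congrArg Subtype.val (Subgroup.mem_center_iff.1 he ⟨y, hy⟩)
    set x : G := ((e : M) : G) with hx
    have hx2 : orderOf x = 2 := by
      rw [hx, Subgroup.orderOf_coe, Subgroup.orderOf_coe, he1]
    obtain ⟨a, ha, q, hq⟩ := pair_decomp S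
      (congrArg Subtype.val (hec J (hR hJU))).symm (congrArg Subtype.val (hec _ (hR htU))).symm
    have hxe : x = four w τ q := by
      have hcomm : Commute a (four w τ q) :=
        ((show Commute a (w ^ 2) from z_comm S (mem_fix.1 ha).1).pow_right _).mul_right
          ((show Commute a τ from (mem_fix.1 ha).2).pow_right _)
      have h4 : a ^ Nat.card A = 1 := congrArg Subtype.val (pow_card_eq_one' (x := (⟨a, ha⟩ : A)))
      obtain ⟨k, hk⟩ := card_fix_odd S τ
      have h5 : x ^ Nat.card A = x := by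
        rw [hk, pow_succ, pow_mul, sq, mul_self_eq_one hx2, one_pow, one_mul]
      rw [← hx] at hq
      rw [hq, hcomm.mul_pow, h4, one_mul, hk, pow_succ, pow_mul, sq, four_sq S, one_pow, one_mul] at h5
      rw [hq, ← h5]
    obtain ⟨g, hgM, hg⟩ : ∃ g ∈ M, g * w ^ 2 * g⁻¹ = x := by
      rw [hxe]
      obtain ⟨i, j⟩ := q
      fin_cases i <;> fin_cases j
      · exfalso
        exact ne_one_of_invol hx2 (by simpa [four] using hxe)
      · refine ⟨d * d, mul_mem hdM hdM, ?_⟩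
        simp only [four, Fin.zero_eta, Fin.mk_one, Fin.val_zero, Fin.val_one, pow_zero, pow_one, one_mul]
        calc d * d * w ^ 2 * (d * d)⁻¹ = d * (d * w ^ 2 * d⁻¹) * d⁻¹ := by group
          _ = d * (w ^ 2 * τ) * d⁻¹ := by rw [d1]
          _ = d * w ^ 2 * d⁻¹ * (d * τ * d⁻¹) := by group
          _ = τ := by rw [d1, d2, mul_assoc, tau_z S, ← mul_assoc, z_mul_z S, one_mul]
      · exact ⟨1, one_mem _, by simp [four]⟩
      · refine ⟨d, hdM, ?_⟩
        simp only [four, Fin.mk_one, Fin.val_one, pow_one]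
        exact d1
    have hgz : (⟨g, hgM⟩ : M) * J * (⟨g, hgM⟩ : M)⁻¹ = (e : M) := Subtype.ext hg
    have hle : (R : Subgroup M) ≤ Subgroup.centralizer ({(e : M)} : Set M) := fun y hy =>
      Subgroup.mem_centralizer_singleton_iff.2 (hec y hy)
    have hdvd := Subgroup.card_dvd_of_le hle
    have hcc : Nat.card (Subgroup.centralizer ({(e : M)} : Set M)) =
        Nat.card (Subgroup.centralizer ({J} : Set M)) := by
      rw [← hgz]
      symm
      refine Nat.card_congr (Equiv.subtypeEquiv (MulAut.conj (⟨g, hgM⟩ : M)).toEquiv fun y => ?_)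
      simp only [Subgroup.mem_centralizer_singleton_iff, MulEquiv.toEquiv_eq_coe, MulEquiv.coe_toEquiv,
        MulAut.conj_apply]
      exact (Commute.conj_iff _).symm
    rw [hcc, hCz] at hdvd
    obtain ⟨k, hk⟩ := IsPGroup.iff_card.1 R.2
    rw [hk] at hdvd
    have hodd := (card_fix_odd S τ).mul (card_fix_odd S (w * τ))
    have h4 : 2 ^ k ∣ 4 := ((Nat.coprime_two_left.2 hodd).pow_left k).dvd_of_dvd_mul_right hdvd
    exact (Subgroup.eq_of_le_of_card_ge hR (by rw [hUcard, hk]; exact Nat.le_of_dvd four_pos h4)).symm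
  have hR4 : Nat.card (R : Subgroup M) = 4 := by rw [hRU, hUcard]
  have hg₀ : Odd (R : Subgroup M).index := Nat.odd_iff.2 (by have := R.not_dvd_index; omega)
  have hcard : Nat.card M = 4 * (R : Subgroup M).index := by
    rw [← (R : Subgroup M).card_mul_index, hR4]
  have hJ2 : orderOf J = 2 := by rw [hJd, Subgroup.orderOf_mk, DihPairs.orderOf_J S.d]
  have hnc : ¬ ∃ N : Subgroup M, N.Normal ∧ Nat.card N = (R : Subgroup M).index := by
    rintro ⟨N, hN, hNc⟩
    have h4 : Nat.card (M ⧸ N) = 2 ^ 2 := by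
      have h := N.card_mul_index
      rw [hcard, hNc, mul_comm 4] at h
      exact Nat.eq_of_mul_eq_mul_left hg₀.pos h
    have hcomm := IsPGroup.commutative_of_card_eq_prime_sq (p := 2) (G := M ⧸ N) h4
    set D : M := ⟨d, hdM⟩
    have e : D * J * D⁻¹ * J⁻¹ = ⟨τ, hτM⟩ := Subtype.ext (by
      show d * w ^ 2 * d⁻¹ * (w ^ 2)⁻¹ = τ
      rw [d1, ← tau_z S, mul_inv_cancel_right])
    have hmem : (⟨τ, hτM⟩ : M) ∈ N := by
      rw [← e, ← QuotientGroup.eq_one_iff]
      simp only [QuotientGroup.mk_mul, QuotientGroup.mk_inv]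
      rw [hcomm (D : M ⧸ N), mul_inv_cancel_right, mul_inv_cancel]
    have ho := Subgroup.orderOf_dvd_natCard N hmem
    have hτ1 : τ ≠ 1 := fun h => S.d.not_mem (h ▸ one_mem _)
    rw [Subgroup.orderOf_mk, orderOf_eq_two hτ1 S.d.sq, hNc] at ho
    rcases hg₀ with ⟨k, hk⟩
    omega
  obtain ⟨a, b, c, ε, δ, η, hpos, hsign, hrel, hne, h⟩ :=
    klein_formula _ hg₀ hcard hnc R (hR hJU) hJ2
  have hP : Nat.card (Subgroup.centralizer ((R : Subgroup M) : Set M)) = 4 * Nat.card A := by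
    rw [hAd, ← (card_pair S).1]
    have hpM : ∀ x ∈ Subgroup.centralizer ({w ^ 2, τ} : Set G), x ∈ M := by
      intro x hx
      obtain ⟨x1, x2⟩ := DihPairs.centralizer_pair_mem.1 hx
      obtain ⟨a', ha', q, rfl⟩ := pair_decomp S x1 x2
      exact mul_mem (Subgroup.mem_centralizer_iff.2 fun a ha =>
        core_comm S (mem_fix.1 ha).1 (mem_fix.1 ha').1) (hqM q)
    refine Nat.card_eq_of_bijective (fun y => ⟨((y : M) : G), DihPairs.centralizer_pair_mem.2
      ⟨(congrArg Subtype.val (Subgroup.mem_centralizer_iff.1 y.2 J (hR hJU))).symm,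
        (congrArg Subtype.val (Subgroup.mem_centralizer_iff.1 y.2 _ (hR htU))).symm⟩⟩)
      ⟨fun y y' e => ?_, fun x => ?_⟩
    · simp only [Subtype.mk.injEq] at e
      have e' : ((y : M) : G) = ((y' : M) : G) := e
      exact Subtype.ext (Subtype.ext e')
    · refine ⟨⟨⟨x, hpM x x.2⟩, Subgroup.mem_centralizer_iff.2 fun s hs => ?_⟩, rfl⟩
      rw [hRU] at hs
      obtain ⟨q, hq⟩ := (hUmem s).1 hs
      obtain ⟨x1, x2⟩ := DihPairs.centralizer_pair_mem.1 x.2
      refine Subtype.ext ?_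
      show (s : G) * (x : G) = (x : G) * (s : G)
      rw [hq]
      exact (((show Commute (x : G) (w ^ 2) from x1).pow_right _).mul_right
        ((show Commute (x : G) τ from x2).pow_right _)).eq.symm
  rw [hP, hCz] at h
  push_cast at h
  exact ⟨_, a, b, c, ε, δ, η, hg₀, hcard, hpos, hsign, hrel, hne, h⟩

/-- The lower bound for the centraliser of `fix w τ`. -/
theorem card_centralizer_fix_ge (S : Setup P w τ) (hA : 1 < Nat.card (fix w τ)) :
    12 * (Nat.card (fix w τ) * Nat.card (fix w (w * τ)) ^ 3) ≤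
      Nat.card (Subgroup.centralizer (fix w τ : Set G)) := by
  obtain ⟨g₀, a, b, c, ε, δ, η, -, -, ⟨ha, hb, hc⟩, ⟨he, hd, hh⟩, hrel, hne, h⟩ := centralizer_fix S hA
  obtain ⟨h38, h0⟩ := Arith.three_eighths ha hb hc he hd hh hrel
  have hq : (0 : ℤ) < (a + ε) * (b + δ) * (c + η) := lt_of_le_of_ne h0 (Ne.symm hne)
  have hα : (0 : ℤ) < (Nat.card (fix w τ) : ℤ) ^ 2 := by
    have : (0 : ℤ) < Nat.card (fix w τ) := by exact_mod_cast Nat.card_pos
    positivity
  have key : (12 * ((Nat.card (fix w τ) : ℤ) * (Nat.card (fix w (w * τ)) : ℤ) ^ 3)) *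
      ((Nat.card (fix w τ) : ℤ) ^ 2 * ((a + ε) * (b + δ) * (c + η))) ≤
      (Nat.card (Subgroup.centralizer (fix w τ : Set G)) : ℤ) *
      ((Nat.card (fix w τ) : ℤ) ^ 2 * ((a + ε) * (b + δ) * (c + η))) := by
    have hmul := mul_le_mul_of_nonneg_left h38
      (show (0 : ℤ) ≤ 32 * ((Nat.card (fix w τ) : ℤ) ^ 3 * (Nat.card (fix w (w * τ)) : ℤ) ^ 3) by positivity)
    linarith [h, hmul]
  exact_mod_cast le_of_mul_le_mul_right key (mul_pos hα hq)

end CfsgLib.SmallCent
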