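import Cfsg.Agent.Lib.Invol.DihedralCount

/-!
# A self-centralising element of order four in a dihedral Sylow 2-subgroup of order eight

`O = core (w ^ 2)` is inverted by `w`, hence abelian, and is the product of the centralisers of the
two reflections `τ` and `w τ`.
-/

set_option autoImplicit false

namespace CfsgLib.SmallCent

open CfsgLib.Invol

universe u

variable {G : Type u} [Group G] [Finite G]

/-- The hypotheses of the remaining case. -/
structure Setup (P : Sylow 2 G) (w τ : G) : Prop where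
  d : DihPairs.DihData P w τ 2
  hone : ∀ s : G, orderOf s = 2 → IsConj (w ^ 2) s
  hw : Nat.card (Subgroup.centralizer ({w} : Set G)) = 4

/-- The fixed points of `r` in the core of `C(w ^ 2)`. -/
def fix (w r : G) : Subgroup G := DihPairs.core (w ^ 2) ⊓ Subgroup.centralizer ({r} : Set G)

omit [Finite G] in
theorem mem_fix {w r x : G} : x ∈ fix w r ↔ x ∈ DihPairs.core (w ^ 2) ∧ x * r = r * x := by
  rw [fix, Subgroup.mem_inf, Subgroup.mem_centralizer_singleton_iff]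

theorem centralizer_eq_zpowers {P : Sylow 2 G} {w τ : G} (S : Setup P w τ) :
    Subgroup.centralizer ({w} : Set G) = Subgroup.zpowers w := by
  refine (Subgroup.eq_of_le_of_card_ge (Subgroup.zpowers_le.2 ?_) ?_).symm
  · exact Subgroup.mem_centralizer_singleton_iff.2 rfl
  · rw [S.hw, Nat.card_zpowers, S.d.ord]

variable {P : Sylow 2 G} {w τ : G}

theorem z_comm (S : Setup P w τ) {o : G} (ho : o ∈ DihPairs.core (w ^ 2)) :
    o * w ^ 2 = w ^ 2 * o :=
  Subgroup.mem_centralizer_singleton_iff.1 (DihPairs.core_le _ ho)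

theorem eq_one_of_comm (S : Setup P w τ) {o : G} (ho : o ∈ DihPairs.core (w ^ 2))
    (h : o * w = w * o) : o = 1 := by
  refine DihPairs.eq_one_of_core_of_sylow S.d ho ?_
  have h1 : o ∈ Subgroup.centralizer ({w} : Set G) := Subgroup.mem_centralizer_singleton_iff.2 h
  rw [centralizer_eq_zpowers S] at h1
  exact Subgroup.zpowers_le.2 S.d.hσ h1

theorem w_comm_z : w * w ^ 2 = w ^ 2 * w := (Commute.self_pow w 2).eq

/-- `w` inverts the core. -/
theorem w_inv (S : Setup P w τ) {o : G} (ho : o ∈ DihPairs.core (w ^ 2)) :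
    w * o * w⁻¹ = o⁻¹ := by
  let f : DihPairs.core (w ^ 2) → DihPairs.core (w ^ 2) := fun x =>
    ⟨(x : G)⁻¹ * (w * x * w⁻¹), mul_mem (inv_mem x.2) (DihPairs.core_conj_mem w_comm_z x.2)⟩
  have hf : Function.Injective f := by
    intro x y e
    have e' : (x : G)⁻¹ * (w * x * w⁻¹) = (y : G)⁻¹ * (w * y * w⁻¹) := congrArg Subtype.val e
    refine Subtype.ext (mul_inv_eq_one.1 (eq_one_of_comm S (mul_mem x.2 (inv_mem y.2)) ?_))
    calc (x : G) * (y : G)⁻¹ * w = x * ((y : G)⁻¹ * (w * y * w⁻¹)) * w * (y : G)⁻¹ := by group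
      _ = w * ((x : G) * (y : G)⁻¹) := by rw [← e']; group
  obtain ⟨x, hx⟩ := Finite.injective_iff_surjective.1 hf ⟨o, ho⟩
  obtain rfl : (x : G)⁻¹ * (w * x * w⁻¹) = o := congrArg Subtype.val hx
  have h2 : w ^ 2 * (x : G) * (w ^ 2)⁻¹ = x := by
    rw [← z_comm S x.2, mul_inv_cancel_right]
  calc w * ((x : G)⁻¹ * (w * x * w⁻¹)) * w⁻¹ = w * (x : G)⁻¹ * w⁻¹ * (w ^ 2 * x * (w ^ 2)⁻¹) := by
        group
    _ = _ := by rw [h2]; group

theorem core_comm (S : Setup P w τ) {a b : G} (ha : a ∈ DihPairs.core (w ^ 2))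
    (hb : b ∈ DihPairs.core (w ^ 2)) : a * b = b * a := by
  have h : (a * b)⁻¹ = a⁻¹ * b⁻¹ := by
    rw [← w_inv S (mul_mem ha hb), ← w_inv S ha, ← w_inv S hb]; group
  rw [mul_inv_rev] at h
  calc a * b = (b⁻¹ * a⁻¹)⁻¹ := by group
    _ = b * a := by rw [h]; group

theorem tau_conj_mem (S : Setup P w τ) {o : G} (ho : o ∈ DihPairs.core (w ^ 2)) :
    τ * o * τ⁻¹ ∈ DihPairs.core (w ^ 2) :=
  DihPairs.core_conj_mem (DihPairs.comm_J S.d S.d.hτ) ho

/-- Fixed by `w τ` is the same as inverted by `τ`. -/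
theorem mem_fix_b_iff (S : Setup P w τ) {o : G} :
    o ∈ fix w (w * τ) ↔ o ∈ DihPairs.core (w ^ 2) ∧ τ * o * τ⁻¹ = o⁻¹ := by
  rw [mem_fix]
  refine and_congr_right fun ho => ?_
  have h := w_inv S (tau_conj_mem S ho)
  constructor
  · intro e
    have e' : w * (τ * o * τ⁻¹) * w⁻¹ = o := by
      calc _ = w * τ * o * (w * τ)⁻¹ := by group
        _ = o := by rw [← e, mul_inv_cancel_right]
    rw [h, inv_eq_iff_eq_inv] at e'
    exact e'
  · intro e
    rw [e, inv_inv] at h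
    calc o * (w * τ) = w * (τ * o * τ⁻¹) * w⁻¹ * (w * τ) := by rw [e, h]
      _ = _ := by group

theorem eq_one_of_sq {o : G} (S : Setup P w τ) (ho : o ∈ DihPairs.core (w ^ 2)) (h : o * o = 1) :
    o = 1 := by
  have hd : orderOf o ∣ 2 := orderOf_dvd_of_pow_eq_one (by rw [sq]; exact h)
  rcases (Nat.dvd_prime Nat.prime_two).1 hd with e | e
  · exact orderOf_eq_one_iff.1 e
  · exact absurd (by rw [e]) (DihPairs.core_odd S.d ho)

/-- The core is the product of the fixed groups. -/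
theorem card_core (S : Setup P w τ) :
    Nat.card (fix w τ) * Nat.card (fix w (w * τ)) = Nat.card (DihPairs.core (w ^ 2)) := by
  rw [← Nat.card_prod]
  refine Nat.card_eq_of_bijective
    (fun q => (⟨(q.1 : G) * q.2, mul_mem (mem_fix.1 q.1.2).1 (mem_fix.1 q.2.2).1⟩ :
      DihPairs.core (w ^ 2))) ⟨?_, ?_⟩
  · rintro ⟨a, b⟩ ⟨a', b'⟩ e
    have e' : (a : G) * b = a' * b' := congrArg Subtype.val e
    have e1 : (a' : G)⁻¹ * a = b' * (b : G)⁻¹ := by
      rw [eq_mul_inv_iff_mul_eq, mul_assoc, e', inv_mul_cancel_left]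
    obtain ⟨hc, hf⟩ := mem_fix.1 (mul_mem (inv_mem a'.2) a.2)
    obtain ⟨-, hi⟩ := (mem_fix_b_iff S).1 (mul_mem b'.2 (inv_mem b.2))
    rw [← e1, ← hf, mul_inv_cancel_right] at hi
    have h1 : (a' : G)⁻¹ * a = 1 := eq_one_of_sq S hc (by
      nth_rw 1 [hi]; exact inv_mul_cancel _)
    have ha : a = a' := Subtype.ext (inv_mul_eq_one.1 h1).symm
    subst ha
    exact Prod.ext rfl (Subtype.ext (mul_left_cancel e'))
  · rintro ⟨y, hy⟩
    let sq' : DihPairs.core (w ^ 2) → DihPairs.core (w ^ 2) := fun x => x * x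
    have hinj : Function.Injective sq' := by
      intro x x' e
      have e' : (x : G) * x = x' * x' := congrArg Subtype.val e
      refine Subtype.ext (mul_inv_eq_one.1 (eq_one_of_sq S (mul_mem x.2 (inv_mem x'.2)) ?_))
      have hc := core_comm S x.2 (inv_mem x'.2)
      calc (x : G) * (x' : G)⁻¹ * (x * (x' : G)⁻¹) = x * ((x' : G)⁻¹ * x) * (x' : G)⁻¹ := by group
        _ = x * x * ((x' : G)⁻¹ * (x' : G)⁻¹) := by rw [← hc]; group
        _ = 1 := by rw [e']; group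
    obtain ⟨x, hx⟩ := Finite.injective_iff_surjective.1 hinj ⟨y, hy⟩
    have hxy : (x : G) * x = y := congrArg Subtype.val hx
    have ht := tau_conj_mem S x.2
    have hcc := core_comm S x.2 ht
    have htt : τ * τ * (x : G) * (τ * τ)⁻¹ = x := by rw [S.d.sq]; group
    refine ⟨(⟨x * (τ * x * τ⁻¹), mem_fix.2 ⟨mul_mem x.2 ht, ?_⟩⟩,
      ⟨x * (τ * x * τ⁻¹)⁻¹, (mem_fix_b_iff S).2 ⟨mul_mem x.2 (inv_mem ht), ?_⟩⟩), Subtype.ext ?_⟩
    · calc (x : G) * (τ * x * τ⁻¹) * τ = τ * x * τ⁻¹ * x * τ := by rw [hcc]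
        _ = τ * x * τ⁻¹ * (τ * τ * (x : G) * (τ * τ)⁻¹) * τ := by rw [htt]
        _ = τ * ((x : G) * (τ * x * τ⁻¹)) := by group
    · calc τ * ((x : G) * (τ * x * τ⁻¹)⁻¹) * τ⁻¹ =
          τ * x * τ⁻¹ * (τ * τ * (x : G) * (τ * τ)⁻¹)⁻¹ := by group
        _ = τ * x * τ⁻¹ * (x : G)⁻¹ := by rw [htt]
        _ = _ := by group
    · show (x : G) * (τ * x * τ⁻¹) * (x * (τ * x * τ⁻¹)⁻¹) = y
      rw [← hxy, hcc]
      calc τ * x * τ⁻¹ * x * (x * (τ * x * τ⁻¹)⁻¹) =
          τ * x * τ⁻¹ * ((x : G) * x) * (τ * x * τ⁻¹)⁻¹ := by group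
        _ = x * x := by
          rw [← core_comm S (mul_mem x.2 x.2) ht, mul_inv_cancel_right]

/-- The centraliser of a reflection and the central involution. -/
theorem card_centralizer_pair {h : ℕ} {σ : G} (d : DihPairs.DihData P σ τ h) (i : ℕ) :
    Nat.card (Subgroup.centralizer ({σ ^ h, σ ^ i * τ} : Set G)) =
      Nat.card (DihPairs.core (σ ^ h) ⊓ Subgroup.centralizer ({σ ^ i * τ} : Set G) : Subgroup G) *
        4 := by
  set t := σ ^ i * τ with ht
  rw [← DihPairs.card_centralizer_refl d i, ← Nat.card_prod]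
  symm
  refine Nat.card_eq_of_bijective (fun q => ⟨(q.1 : G) * (q.2 : G), ?_⟩) ⟨?_, ?_⟩
  · obtain ⟨h1, h2⟩ := Subgroup.mem_inf.1 q.1.2
    refine DihPairs.centralizer_pair_mem.2 ⟨?_, ?_⟩
    · rw [mul_assoc, DihPairs.comm_J d q.2.2.1, ← mul_assoc,
        Subgroup.mem_centralizer_singleton_iff.1 (DihPairs.core_le _ h1), mul_assoc]
    · rw [mul_assoc, q.2.2.2, ← mul_assoc,
        Subgroup.mem_centralizer_singleton_iff.1 h2, mul_assoc]
  · intro q q' e
    obtain ⟨e1, e2⟩ := DihPairs.decomp_unique d (Subgroup.mem_inf.1 q.1.2).1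
      (Subgroup.mem_inf.1 q'.1.2).1 q.2.2.1 q'.2.2.1 (congrArg Subtype.val e)
    exact Prod.ext (Subtype.ext e1) (Subtype.ext e2)
  · rintro ⟨c, hc⟩
    obtain ⟨h1, h2⟩ := DihPairs.centralizer_pair_mem.1 hc
    obtain ⟨o, ho, s, hs, rfl⟩ := DihPairs.exists_decomp d h1
    have e : t * o * t⁻¹ * (t * s * t⁻¹) = o * s := by
      rw [show t * o * t⁻¹ * (t * s * t⁻¹) = t * (o * s) * t⁻¹ by group, ← h2,
        mul_inv_cancel_right]
    obtain ⟨e1, e2⟩ := DihPairs.decomp_unique d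
      (DihPairs.core_conj_mem (DihPairs.comm_J d (DihPairs.refl_mem d i)) ho) ho
      (mul_mem (mul_mem (DihPairs.refl_mem d i) hs) (inv_mem (DihPairs.refl_mem d i))) hs e
    exact ⟨(⟨o, Subgroup.mem_inf.2 ⟨ho, Subgroup.mem_centralizer_singleton_iff.2
      (mul_inv_eq_iff_eq_mul.1 e1).symm⟩⟩, ⟨s, hs, (mul_inv_eq_iff_eq_mul.1 e2).symm⟩), rfl⟩

theorem card_pair (S : Setup P w τ) :
    Nat.card (Subgroup.centralizer ({w ^ 2, τ} : Set G)) = 4 * Nat.card (fix w τ) ∧
    Nat.card (Subgroup.centralizer ({w ^ 2, w * τ} : Set G)) = 4 * Nat.card (fix w (w * τ)) := by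
  constructor
  · have h := card_centralizer_pair S.d 0
    rw [pow_zero, one_mul] at h
    rw [h, mul_comm]; rfl
  · have h := card_centralizer_pair S.d 1
    rw [pow_one] at h
    rw [h, mul_comm]; rfl

theorem card_centralizer_z (S : Setup P w τ) :
    Nat.card (Subgroup.centralizer ({w ^ 2} : Set G)) = 8 * Nat.card (DihPairs.core (w ^ 2)) := by
  rw [DihPairs.core, Subgroup.card_map_of_injective (Subgroup.subtype_injective _),
    show (8 : ℕ) = 4 * 2 by norm_num, ← (DihPairs.index_core S.d).1, Subgroup.index_mul_card]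

end CfsgLib.SmallCent
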