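import Cfsg.Agent.Lib.PGroup.MaximalClass
import Mathlib.Tactic.Group

/-!
# 2-groups with a self-centralizing subgroup of order four: dihedral, semidihedral, quaternion
-/

set_option autoImplicit false

namespace CfsgLib.SmallCent

universe u

/-- Powers of a conjugate of a cyclic generator. -/
theorem conj_zpow_inv_mul {X : Type u} [Group X] {a t c : X} (hc : Commute a c)
    (h : t * a * t⁻¹ = a⁻¹ * c) (k : ℤ) : t * a ^ k * t⁻¹ = (a ^ k)⁻¹ * c ^ k := by
  rw [← conj_zpow, h, (hc.inv_left).mul_zpow, inv_zpow]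

theorem sylow_shape {X : Type u} [Group X] [Finite X] (n : ℕ) (hn : 3 ≤ n)
    (hX : Nat.card X = 2 ^ n) (A : Subgroup X) (hA : Nat.card A = 2 ^ 2)
    (hAc : Subgroup.centralizer (A : Set X) = A) :
    ∃ a t z : X, orderOf a = 2 ^ (n - 1) ∧ (Subgroup.zpowers a).index = 2 ∧
      t ∉ Subgroup.zpowers a ∧ z = a ^ 2 ^ (n - 2) ∧ orderOf z = 2 ∧ (∀ g, g * z = z * g) ∧
      ((t * t = 1 ∧ t * a * t⁻¹ = a⁻¹) ∨
       (t * t = z ∧ t * a * t⁻¹ = a⁻¹) ∨
       (4 ≤ n ∧ t * t = 1 ∧ t * a * t⁻¹ = a⁻¹ * z)) := by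
  have : Fact (Nat.Prime 2) := ⟨Nat.prime_two⟩
  have hidx : (commutator X).index = 4 :=
    PGroup.MaxClass.index_four_of_klein
      (PGroup.MaxClass.klein_of_class n hn hX (PGroup.MaxClass.class_of_self_centralizing n X hX A hA hAc))
  obtain ⟨a, t, ha, ht, -, htt, hta, -, hcard, hzc⟩ := PGroup.MaxClass.structure_two n hn hX hidx
  have hi2 : (Subgroup.zpowers a).index = 2 := by
    have := (Subgroup.zpowers a).card_mul_index
    rw [Nat.card_zpowers, ha, hX, show n = n - 1 + 1 by omega, pow_succ] at this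
    exact Nat.eq_of_mul_eq_mul_left (pow_pos two_pos _) this
  set z := a ^ 2 ^ (n - 2) with hz
  have hz2 : orderOf z = 2 := by
    rw [hz, orderOf_pow' a (pow_pos two_pos _).ne', ha, show n - 1 = n - 2 + 1 by omega, pow_succ,
      Nat.gcd_eq_right (dvd_mul_right _ _), Nat.mul_div_cancel_left _ (pow_pos two_pos _)]
  have hcen : Subgroup.center X = Subgroup.zpowers z :=
    (Subgroup.eq_of_le_of_card_ge (Subgroup.zpowers_le.2 hzc)
      (by rw [hcard, Nat.card_zpowers, hz2])).symm
  have htwo : ∀ g ∈ Subgroup.center X, g = 1 ∨ g = z := by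
    intro g hg
    rw [hcen] at hg
    obtain ⟨k, rfl⟩ := Subgroup.mem_zpowers_iff.1 hg
    rw [← zpow_mod_orderOf z k, hz2]
    rcases Int.emod_two_eq_zero_or_one k with h | h <;> simp [h]
  have hzall : ∀ g, g * z = z * g := fun g => Subgroup.mem_center_iff.1 hzc g
  have hconj : t * a * t⁻¹ = a⁻¹ ∨ t * a * t⁻¹ = a⁻¹ * z := by
    rcases htwo _ hta with h | h
    · exact Or.inl (eq_inv_of_mul_eq_one_left h)
    · exact Or.inr (by rw [hzall, ← h, mul_inv_cancel_right])
  rcases hconj with h | h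
  · rcases htwo _ htt with h' | h'
    · exact ⟨a, t, z, ha, hi2, ht, hz, hz2, hzall, Or.inl ⟨h', h⟩⟩
    · exact ⟨a, t, z, ha, hi2, ht, hz, hz2, hzall, Or.inr (Or.inl ⟨h', h⟩)⟩
  · have hn4 : 4 ≤ n := by
      by_contra hn4
      obtain rfl : n = 3 := by omega
      have haa : a * a = z := by rw [hz]; norm_num [sq]
      have hta' : t * a = a * t := by
        rw [← haa, inv_mul_cancel_left, mul_inv_eq_iff_eq_mul] at h
        exact h
      have hac : a ∈ Subgroup.center X := by
        refine Subgroup.mem_center_iff.2 fun g => ?_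
        by_cases hg : g ∈ Subgroup.zpowers a
        · obtain ⟨k, rfl⟩ := Subgroup.mem_zpowers_iff.1 hg
          exact (Commute.zpow_self a k).eq
        · have hgt : g * t⁻¹ ∈ Subgroup.zpowers a := by
            rw [Subgroup.mul_mem_iff_of_index_two hi2, inv_mem_iff]
            exact iff_of_false hg ht
          obtain ⟨k, hk⟩ := Subgroup.mem_zpowers_iff.1 hgt
          rw [show g = a ^ k * t by rw [hk, inv_mul_cancel_right]]
          exact ((Commute.zpow_self a k).mul_left hta').eq
      rcases htwo a hac with e | e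
      · rw [e, orderOf_one] at ha; norm_num at ha
      · rw [e, hz2] at ha; norm_num at ha
    rcases htwo _ htt with h' | h'
    · exact ⟨a, t, z, ha, hi2, ht, hz, hz2, hzall, Or.inr (Or.inr ⟨hn4, h', h⟩)⟩
    · refine ⟨a, a * t, z, ha, hi2, ?_, hz, hz2, hzall, Or.inr (Or.inr ⟨hn4, ?_, ?_⟩)⟩
      · intro hm
        refine ht ?_
        have := mul_mem (inv_mem (Subgroup.mem_zpowers a)) hm
        rwa [inv_mul_cancel_left] at this
      · have e : a * t * (a * t) = a * (t * a * t⁻¹) * (t * t) := by group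
        rw [e, h, h', mul_inv_cancel_left]
        have := pow_orderOf_eq_one z
        rwa [hz2, sq] at this
      · have e : a * t * a * (a * t)⁻¹ = a * (t * a * t⁻¹) * a⁻¹ := by group
        rw [e, h, mul_inv_cancel_left, ← hzall]

end CfsgLib.SmallCent
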